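import Cfsg.Agent.Lib.Orth.Reflection
import Cfsg.Agent.Lib.Classical.Quad.Std
import Cfsg.Agent.Lib.Classical.SmallIso.Core
import Mathlib.GroupTheory.Perm.Cycle.Type
import Mathlib.Tactic

/-!
# The elliptic quadratic space of dimension six over the field with two elements
-/

set_option autoImplicit false
set_option linter.style.haveILetI false
set_option synthInstance.maxSize 20000
set_option synthInstance.maxHeartbeats 400000
set_option maxRecDepth 10000

namespace CfsgLib.SuzType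

open QuadraticMap (polar)
open CfsgLib.Classical.Quad CfsgLib.Orth

/-- The four-dimensional elliptic space. -/
abbrev W4 : Type := ZMod 2 × ZMod 2 × ZMod 2 × ZMod 2

/-- The six-dimensional elliptic space: a hyperbolic plane and `W4`. -/
abbrev V6 : Type := ZMod 2 × ZMod 2 × W4

/-- The form on `W4`. -/
def q4 (x : W4) : ZMod 2 :=
  x.1 * x.2.1 + (x.2.2.1 * x.2.2.1 + x.2.2.1 * x.2.2.2 + x.2.2.2 * x.2.2.2)

/-- The polar form on `W4`. -/
def B4 (x y : W4) : ZMod 2 :=
  x.1 * y.2.1 + y.1 * x.2.1 + (x.2.2.1 * y.2.2.2 + y.2.2.1 * x.2.2.2)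

/-- The form on `V6`. -/
def q6 (x : V6) : ZMod 2 := x.1 * x.2.1 + q4 x.2.2

/-- The polar form on `V6`. -/
def B6 (x y : V6) : ZMod 2 := x.1 * y.2.1 + y.1 * x.2.1 + B4 x.2.2 y.2.2

/-- The distinguished singular vector. -/
def u0 : V6 := (1, 0, 0)

/-- Its partner. -/
def v0 : V6 := (0, 1, 0)

/-- The inclusion of `W4`. -/
def emb (x : W4) : V6 := (0, 0, x)

/-- The distinguished nonsingular vector of `W4`. -/
def w0 : W4 := (0, 0, 1, 0)

/-- Its companion. -/
def vd : W4 := (0, 0, 0, 1)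

theorem zcases (z : ZMod 2) : z = 0 ∨ z = 1 := by revert z; decide

theorem zne {z : ZMod 2} (h : z ≠ 0) : z = 1 := (zcases z).resolve_left h

theorem zadd {a b : ZMod 2} : a + b = 0 ↔ a = b := by revert a b; decide

@[simp] theorem B4_zero_right (x : W4) : B4 x 0 = 0 := by simp [B4]

@[simp] theorem B4_zero_left (x : W4) : B4 0 x = 0 := by simp [B4]

theorem v6_add_self (x : V6) : x + x = 0 := by revert x; decide

theorem w4_add_self (x : W4) : x + x = 0 := by revert x; decide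

theorem v6_add_eq {x y z : V6} (h : x + y = z) : x = z + y := by
  rw [← h, add_assoc, v6_add_self, add_zero]

/-- The form as a quadratic map. -/
noncomputable def Q6 : QuadraticForm (ZMod 2) V6 :=
  LinearMap.BilinMap.toQuadraticMap
    (LinearMap.mk₂ (ZMod 2) (fun x y : V6 => x.1 * y.2.1 + (x.2.2.1 * y.2.2.2.1 +
      (x.2.2.2.2.1 * y.2.2.2.2.1 + x.2.2.2.2.1 * y.2.2.2.2.2 + x.2.2.2.2.2 * y.2.2.2.2.2)))
      (fun a b c => by simp; ring) (fun c a b => by simp; ring)
      (fun a b c => by simp; ring) (fun c a b => by simp; ring))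

theorem Q6_apply (x : V6) : Q6 x = q6 x := rfl

theorem polar_Q6 (x y : V6) : polar Q6 x y = B6 x y := by
  simp only [polar, Q6_apply, q6, q4, B6, B4, Prod.fst_add, Prod.snd_add]
  linear_combination (x.2.2.2.2.1 * y.2.2.2.2.1 + x.2.2.2.2.2 * y.2.2.2.2.2) *
    (CharTwo.two_eq_zero (R := ZMod 2))

theorem nd6 : NDPolar Q6 := by
  intro x hx
  simp only [polar_Q6] at hx
  exact (by decide : ∀ x : V6, B6 x u0 = 0 → B6 x v0 = 0 → B6 x (emb (1, 0, 0, 0)) = 0 →
    B6 x (emb (0, 1, 0, 0)) = 0 → B6 x (emb w0) = 0 → B6 x (emb vd) = 0 → x = 0) x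
    (hx _) (hx _) (hx _) (hx _) (hx _) (hx _)

theorem q6_g (g : Orth Q6) (x : V6) : q6 (g.1 x) = q6 x := orth_Q g x

theorem B6_g (g : Orth Q6) (x y : V6) : B6 (g.1 x) (g.1 y) = B6 x y := by
  have := orth_polar g x y
  rwa [polar_Q6, polar_Q6] at this

theorem g_zero (g : Orth Q6) : g.1 0 = 0 := map_zero g.1

theorem g_add (g : Orth Q6) (x y : V6) : g.1 (x + y) = g.1 x + g.1 y := map_add g.1 x y

theorem B6_add_left (x y z : V6) : B6 (x + y) z = B6 x z + B6 y z := by
  simp only [B6, B4, Prod.fst_add, Prod.snd_add]; ring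

theorem B6_add_right (x y z : V6) : B6 x (y + z) = B6 x y + B6 x z := by
  simp only [B6, B4, Prod.fst_add, Prod.snd_add]; ring

theorem B6_comm (x y : V6) : B6 x y = B6 y x := by simp only [B6, B4]; ring

theorem B4_comm (x y : W4) : B4 x y = B4 y x := by simp only [B4]; ring

theorem B4_add_left (x y z : W4) : B4 (x + y) z = B4 x z + B4 y z := by
  simp only [B4, Prod.fst_add, Prod.snd_add]; ring

theorem B4_add_right (x y z : W4) : B4 x (y + z) = B4 x y + B4 x z := by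
  simp only [B4, Prod.fst_add, Prod.snd_add]; ring

theorem q6_add (x y : V6) : q6 (x + y) = q6 x + q6 y + B6 x y := by
  simp only [q6, q4, B6, B4, Prod.fst_add, Prod.snd_add]
  linear_combination (x.2.2.2.2.1 * y.2.2.2.2.1 + x.2.2.2.2.2 * y.2.2.2.2.2) *
    (CharTwo.two_eq_zero (R := ZMod 2))

/-- Two isometries equal on a basis are equal. -/
theorem ext6 {g h : Orth Q6} (h1 : g.1 u0 = h.1 u0) (h2 : g.1 v0 = h.1 v0)
    (h3 : g.1 (emb (1, 0, 0, 0)) = h.1 (emb (1, 0, 0, 0)))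
    (h4 : g.1 (emb (0, 1, 0, 0)) = h.1 (emb (0, 1, 0, 0)))
    (h5 : g.1 (emb w0) = h.1 (emb w0)) (h6 : g.1 (emb vd) = h.1 (emb vd)) : g = h := by
  refine orth_ext fun x => ?_
  rw [show x = x.1 • u0 + x.2.1 • v0 + x.2.2.1 • emb (1, 0, 0, 0) + x.2.2.2.1 • emb (0, 1, 0, 0) +
      x.2.2.2.2.1 • emb w0 + x.2.2.2.2.2 • emb vd from (by decide : ∀ x : V6, x = x.1 • u0 +
      x.2.1 • v0 + x.2.2.1 • emb (1, 0, 0, 0) + x.2.2.2.1 • emb (0, 1, 0, 0) +
      x.2.2.2.2.1 • emb w0 + x.2.2.2.2.2 • emb vd) x]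
  simp only [map_add, map_smul, h1, h2, h3, h4, h5, h6]

/-- The commutator subgroup of the isometry group. -/
noncomputable def Ev : Subgroup (Orth Q6) := commutator (Orth Q6)

theorem gen6 : Subgroup.closure (reflSet Q6) = ⊤ := by
  refine closure_refl nd6 (Or.inr ?_)
  simp [W4, V6]

theorem exists_one6 : ∃ v, Q6 v ≠ 0 := ⟨emb w0, by rw [Q6_apply]; decide⟩

theorem index_Ev : Ev.index = 2 := index_commutator_of_closure_refl nd6 gen6 exists_one6

theorem refl_not_mem {a : V6} (ha : q6 a = 1) : refl Q6 a ∉ Ev := by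
  intro h
  have h1 : refl Q6 a ∈ (dickson nd6 gen6).ker := Abelianization.commutator_subset_ker _ h
  rw [MonoidHom.mem_ker, dickson_refl nd6 gen6 (by rw [Q6_apply, ha]; decide)] at h1
  exact absurd h1 (by decide)

theorem rr_mem {a b : V6} (ha : q6 a = 1) (hb : q6 b = 1) : refl Q6 a * refl Q6 b ∈ Ev := by
  rw [Subgroup.mul_mem_iff_of_index_two index_Ev]
  exact iff_of_false (refl_not_mem ha) (refl_not_mem hb)

/-- Reflection, computably. -/
def rf (a x : V6) : V6 := x + B6 x a • a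

/-- Reflection of `W4`, computably. -/
def r4 (a x : W4) : W4 := x + B4 x a • a

theorem refl6 {a : V6} (ha : q6 a = 1) (x : V6) : (refl Q6 a).1 x = rf a x := by
  rw [refl_apply, polar_Q6, Q6_apply, ha, div_one, CharTwo.neg_eq]; rfl

theorem rf_emb (a x : W4) : rf (emb a) (emb x) = emb (r4 a x) := by
  simp [rf, r4, emb, B6, Prod.ext_iff]

theorem rf_emb_u0 (a : W4) : rf (emb a) u0 = u0 := by revert a; decide

theorem rf_emb_v0 (a : W4) : rf (emb a) v0 = v0 := by revert a; decide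

theorem q6_emb (a : W4) : q6 (emb a) = q4 a := by simp [q6, emb]

/-- The product of two reflections of `W4`, extended to `V6`. -/
noncomputable def rr (a b : W4) : Orth Q6 := refl Q6 (emb a) * refl Q6 (emb b)

theorem rr_apply {a b : W4} (ha : q4 a = 1) (hb : q4 b = 1) (x : V6) :
    (rr a b).1 x = rf (emb a) (rf (emb b) x) := by
  rw [rr, mul_apply, refl6 (by rw [q6_emb, ha]), refl6 (by rw [q6_emb, hb])]

theorem rr_emb {a b : W4} (ha : q4 a = 1) (hb : q4 b = 1) (x : W4) :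
    (rr a b).1 (emb x) = emb (r4 a (r4 b x)) := by
  rw [rr_apply ha hb, rf_emb, rf_emb]

theorem rr_u0 {a b : W4} (ha : q4 a = 1) (hb : q4 b = 1) : (rr a b).1 u0 = u0 := by
  rw [rr_apply ha hb, rf_emb_u0, rf_emb_u0]

theorem rr_v0 {a b : W4} (ha : q4 a = 1) (hb : q4 b = 1) : (rr a b).1 v0 = v0 := by
  rw [rr_apply ha hb, rf_emb_v0, rf_emb_v0]

theorem rr_mem' {a b : W4} (ha : q4 a = 1) (hb : q4 b = 1) : rr a b ∈ Ev :=
  rr_mem (by rw [q6_emb, ha]) (by rw [q6_emb, hb])

/-- The commutator subgroup is transitive on singular vectors. -/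
theorem ev_transitive {s : V6} (hs : q6 s = 0) (hs0 : s ≠ 0) : ∃ g ∈ Ev, g.1 u0 = s := by
  by_cases hb : B6 s u0 = 0
  · by_cases hsu : s = u0
    · exact ⟨1, one_mem _, hsu.symm⟩
    obtain ⟨y, hy, hy1, hy2⟩ := (by decide : ∀ s : V6, q6 s = 0 → s ≠ 0 → B6 s u0 = 0 → s ≠ u0 →
      ∃ y, q6 y = 0 ∧ B6 y u0 = 1 ∧ B6 y s = 1) s hs hs0 hb hsu
    have ha : q6 (y + u0) = 1 := by rw [q6_add, hy, hy1, show q6 u0 = 0 from rfl]; decide
    have hc : q6 (s + y) = 1 := by rw [q6_add, hy, hs, B6_comm, hy2]; decide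
    refine ⟨_, rr_mem hc ha, ?_⟩
    rw [mul_apply, refl6 ha, refl6 hc]
    have e1 : rf (y + u0) u0 = y := by
      rw [rf, B6_add_right, B6_comm u0 y, hy1, show B6 u0 u0 = 0 from rfl, add_zero, one_smul,
        add_comm y u0, ← add_assoc, v6_add_self, zero_add]
    rw [e1, rf, B6_add_right, hy2, show B6 y y = 0 by simp only [B6, B4]; ring_nf; simp [CharTwo.two_eq_zero],
      add_zero, one_smul, add_comm s y, ← add_assoc, v6_add_self, zero_add]
  · have ha : q6 (s + u0) = 1 := by rw [q6_add, hs, zne hb, show q6 u0 = 0 from rfl]; decide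
    refine ⟨_, rr_mem ha (show q6 (emb w0) = 1 by decide), ?_⟩
    rw [mul_apply, refl6 (show q6 (emb w0) = 1 by decide), refl6 ha, rf_emb_u0, rf, B6_add_right,
      B6_comm u0 s, zne hb, show B6 u0 u0 = 0 from rfl, add_zero, one_smul, add_comm s u0, ← add_assoc,
      v6_add_self, zero_add]

theorem ev_transitive' {s t : V6} (hs : q6 s = 0) (hs0 : s ≠ 0) (ht : q6 t = 0) (ht0 : t ≠ 0) :
    ∃ g ∈ Ev, g.1 s = t := by
  obtain ⟨g, hg, e⟩ := ev_transitive hs hs0
  obtain ⟨g', hg', e'⟩ := ev_transitive ht ht0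
  refine ⟨g' * g⁻¹, mul_mem hg' (inv_mem hg), ?_⟩
  rw [mul_apply, ← e, inv_apply_self, e']

/-! ### The root group at `u0` -/

/-- The root transformation, computably. -/
def sgf (w : W4) (x : V6) : V6 := (x.1 + B4 x.2.2 w + q4 w * x.2.1, x.2.1, x.2.2 + x.2.1 • w)

theorem polar_u0_emb (w : W4) : polar Q6 u0 (emb w) = 0 := by
  rw [polar_Q6]; revert w; decide

/-- The root transformation. -/
noncomputable def sg (w : W4) : Orth Q6 :=
  siegel Q6 u0 (emb w) (by rw [Q6_apply]; rfl) (polar_u0_emb w)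

theorem sg_apply (w : W4) (x : V6) : (sg w).1 x = sgf w x := by
  rw [sg, siegel_apply, polar_Q6, polar_Q6, Q6_apply, q6_emb, CharTwo.neg_eq, CharTwo.sub_eq_add]
  simp [sgf, emb, u0, B6, Prod.ext_iff, add_assoc]

theorem sg_u0 (w : W4) : (sg w).1 u0 = u0 := by rw [sg_apply]; revert w; decide

theorem sg_zero : sg 0 = 1 := by
  refine orth_ext fun x => ?_
  rw [sg_apply]; revert x; decide

theorem sg_add (w w' : W4) : sg w * sg w' = sg (w + w') := by
  rw [sg, sg, siegel_mul]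
  rfl

theorem sg_sq (w : W4) : sg w * sg w = 1 := by rw [sg_add, w4_add_self, sg_zero]

theorem sg_v0 (w : W4) : (sg w).1 v0 = (q4 w, 1, w) := by rw [sg_apply]; revert w; decide

theorem sg_inj {w w' : W4} (h : sg w = sg w') : w = w' := by
  have := congrArg (fun g : Orth Q6 => (g.1 v0).2.2) h
  simpa [sg_v0] using this

theorem sg_move (w : W4) (x : V6) :
    (sg w).1 x + x = (B4 x.2.2 w + q4 w * x.2.1, 0, x.2.1 • w) := by
  rw [sg_apply]; revert w x; decide

theorem rr_sg {a b : W4} (ha : q4 a = 1) (hb : q4 b = 1) (w : W4) :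
    rr a b * sg w = sg (r4 a (r4 b w)) * rr a b := by
  have h1 : rr a b * sg w * (rr a b)⁻¹ = sg (r4 a (r4 b w)) := by
    refine orth_ext fun x => ?_
    obtain ⟨y, rfl⟩ : ∃ y, (rr a b).1 y = x := ⟨_, self_apply_inv _ x⟩
    rw [mul_apply, inv_apply_self, mul_apply, sg, sg, siegel_apply, siegel_apply, map_add, map_add,
      map_smul, map_smul, rr_emb ha hb, rr_u0 ha hb]
    simp only [polar_Q6, Q6_apply]
    have e1 : B6 ((rr a b).1 y) u0 = B6 y u0 := by
      conv_lhs => rw [← rr_u0 ha hb]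
      rw [B6_g]
    have e2 : B6 ((rr a b).1 y) (emb (r4 a (r4 b w))) = B6 y (emb w) := by
      rw [← rr_emb ha hb, B6_g]
    have e3 : q6 (emb (r4 a (r4 b w))) = q6 (emb w) := by rw [← rr_emb ha hb, q6_g]
    rw [e1, e2, e3]
  exact mul_inv_eq_iff_eq_mul.1 h1

/-- An isometry fixing `u0` splits into a root transformation and an isometry of `W4`. -/
theorem stab_decomp {g : Orth Q6} (hg : g.1 u0 = u0) (x : W4) :
    g.1 (emb x) = sgf (g.1 v0).2.2 (emb (g.1 (emb x)).2.2) := by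
  have hy1 : B6 (g.1 v0) u0 = 1 := by
    conv_lhs => rw [← hg]
    rw [B6_g]; rfl
  have hz1 : B6 (g.1 (emb x)) u0 = 0 := by
    conv_lhs => rw [← hg]
    rw [B6_g]; exact (by decide : ∀ x : W4, B6 (emb x) u0 = 0) x
  have hyz : B6 (g.1 v0) (g.1 (emb x)) = 0 := by
    rw [B6_g]; exact (by decide : ∀ x : W4, B6 v0 (emb x) = 0) x
  generalize g.1 v0 = y at hy1 hyz ⊢
  generalize g.1 (emb x) = z at hz1 hyz ⊢
  obtain ⟨a, b, y⟩ := y
  obtain ⟨c, d, z⟩ := z
  simp [B6, u0] at hy1 hz1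
  subst hy1 hz1
  simp only [B6, mul_zero, zero_add, mul_one] at hyz
  rw [zadd] at hyz
  simp [sgf, emb, B4_comm z y, ← hyz]

theorem stab_v0 {g : Orth Q6} (hg : g.1 u0 = u0) :
    g.1 v0 = (q4 (g.1 v0).2.2, 1, (g.1 v0).2.2) := by
  have hy1 : B6 (g.1 v0) u0 = 1 := by
    conv_lhs => rw [← hg]
    rw [B6_g]; rfl
  have hy0 : q6 (g.1 v0) = 0 := by rw [q6_g]; rfl
  generalize g.1 v0 = y at hy1 hy0 ⊢
  obtain ⟨a, b, y⟩ := y
  simp [B6, u0] at hy1
  subst hy1
  simp only [q6, mul_one] at hy0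
  rw [zadd] at hy0
  rw [hy0]

/-- `g` lies in the root group at `u`. -/
def InE (g : Orth Q6) (u : V6) : Prop := ∀ x, B6 x u = 0 → g.1 x + x = 0 ∨ g.1 x + x = u

theorem eq_sg {g : Orth Q6} (hg : g.1 u0 = u0)
    (h : ∀ x, B6 x u0 = 0 → g.1 x + x = 0 ∨ g.1 x + x = u0) : g = sg (g.1 v0).2.2 := by
  have hW : ∀ x : W4, (g.1 (emb x)).2.2 = x := fun x => by
    rcases h (emb x) ((by decide : ∀ x : W4, B6 (emb x) u0 = 0) x) with e | e <;>
      rw [v6_add_eq e] <;> simp [emb, u0]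
  refine ext6 (by rw [hg, sg_u0]) ?_ ?_ ?_ ?_ ?_
  · rw [sg_v0]; exact stab_v0 hg
  all_goals rw [stab_decomp hg, hW, sg_apply]

theorem InE.fix {g : Orth Q6} {u : V6} (h : InE g u) : g.1 u = u := by
  rcases h u ((by decide : ∀ u : V6, B6 u u = 0) u) with e | e
  · rw [v6_add_eq e, zero_add]
  · have h2 : g.1 u = 0 := by rw [v6_add_eq e, v6_add_self]
    rw [LinearEquiv.map_eq_zero_iff] at h2
    rw [h2, g_zero]

theorem InE.conj {g : Orth Q6} {u : V6} (h : InE g u) (k : Orth Q6) :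
    InE (k * g * k⁻¹) (k.1 u) := by
  intro x hx
  obtain ⟨y, rfl⟩ : ∃ y, k.1 y = x := ⟨_, self_apply_inv k x⟩
  rw [B6_g] at hx
  rw [mul_apply, inv_apply_self, mul_apply, ← g_add]
  rcases h y hx with e | e <;> rw [e]
  · exact Or.inl (g_zero k)
  · exact Or.inr rfl

/-- An even involution fixing `u0` lies in some root group. -/
theorem exists_root {g : Orth Q6} (hE : g ∈ Ev) (hsg : ∀ w, sg w ∈ Ev) (h2 : g * g = 1)
    (hg : g.1 u0 = u0) : ∃ s, q6 s = 0 ∧ s ≠ 0 ∧ InE g s := by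
  set y := (g.1 v0).2.2 with hy
  have hgg : ∀ x, g.1 (g.1 x) = x := fun x => by rw [← mul_apply, h2, one_apply]
  set H : W4 → W4 := fun x => (g.1 (emb x)).2.2 with hH
  have hd : ∀ x, g.1 (emb x) = sgf y (emb (H x)) := fun x => stab_decomp hg x
  have hHq : ∀ x, q4 (H x) = q4 x := fun x => by
    have := q6_g g (emb x)
    rw [hd, ← sg_apply, q6_g, q6_emb, q6_emb] at this
    exact this
  have hHB : ∀ x x', B4 (H x) (H x') = B4 x x' := fun x x' => by
    have := B6_g g (emb x) (emb x')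
    rw [hd, hd, ← sg_apply, ← sg_apply, B6_g] at this
    simpa [B6, emb] using this
  have hHH : ∀ x, H (H x) = x := fun x => by
    have h1 : g.1 (emb x) = (B4 (H x) y) • u0 + emb (H x) := by
      rw [hd]; simp [sgf, emb, u0, Prod.ext_iff]
    have h3 := congrArg (fun z : V6 => z.2.2) (hgg (emb x))
    rw [h1, map_add, map_smul, hg] at h3
    simpa [u0, emb, hH] using h3
  have hHy : H y = y := by
    have h1 : g.1 v0 = q4 y • u0 + v0 + emb y := by
      conv_lhs => rw [stab_v0 hg]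
      simp [u0, v0, emb, Prod.ext_iff, hy]
    have h3 := congrArg (fun z : V6 => z.2.2) (hgg v0)
    rw [h1, map_add, map_add, map_smul, hg] at h3
    have h4 : y + H y = 0 := by simpa [u0, v0, emb, hH, hy] using h3
    calc H y = y + (y + H y) := by rw [← add_assoc, w4_add_self, zero_add]
      _ = y := by rw [h4, add_zero]
  have hlin : ∀ x : W4, H x = x.1 • H (1, 0, 0, 0) + x.2.1 • H (0, 1, 0, 0) + x.2.2.1 • H w0 +
      x.2.2.2 • H vd := fun x => by
    have e : emb x = x.1 • emb (1, 0, 0, 0) + x.2.1 • emb (0, 1, 0, 0) + x.2.2.1 • emb w0 +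
        x.2.2.2 • emb vd := by revert x; decide
    simp only [hH]
    rw [e]
    simp only [map_add, map_smul, Prod.snd_add, Prod.smul_snd]
  obtain ⟨a, ha, hab⟩ := (by decide :
    ∀ h1 : W4, q4 h1 = q4 (1, 0, 0, 0) →
    ∀ h2 : W4, q4 h2 = q4 (0, 1, 0, 0) → B4 h1 h2 = B4 (1, 0, 0, 0) (0, 1, 0, 0) →
    ∀ h3 : W4, q4 h3 = q4 w0 → B4 h1 h3 = B4 (1, 0, 0, 0) w0 → B4 h2 h3 = B4 (0, 1, 0, 0) w0 →
    ∀ h4 : W4, q4 h4 = q4 vd → B4 h1 h4 = B4 (1, 0, 0, 0) vd → B4 h2 h4 = B4 (0, 1, 0, 0) vd →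
      B4 h3 h4 = B4 w0 vd →
      h1.1 • h1 + h1.2.1 • h2 + h1.2.2.1 • h3 + h1.2.2.2 • h4 = (1, 0, 0, 0) →
      h2.1 • h1 + h2.2.1 • h2 + h2.2.2.1 • h3 + h2.2.2.2 • h4 = (0, 1, 0, 0) →
      h3.1 • h1 + h3.2.1 • h2 + h3.2.2.1 • h3 + h3.2.2.2 • h4 = w0 →
      h4.1 • h1 + h4.2.1 • h2 + h4.2.2.1 • h3 + h4.2.2.2 • h4 = vd →
      ∃ a, q4 a = 1 ∧
        ((h1 = r4 a (1, 0, 0, 0) ∧ h2 = r4 a (0, 1, 0, 0) ∧ h3 = r4 a w0 ∧ h4 = r4 a vd) ∨
          ∃ b, q4 b = 1 ∧ B4 a b = 0 ∧ h1 = r4 a (r4 b (1, 0, 0, 0)) ∧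
            h2 = r4 a (r4 b (0, 1, 0, 0)) ∧ h3 = r4 a (r4 b w0) ∧ h4 = r4 a (r4 b vd)))
    (H (1, 0, 0, 0)) (hHq _) (H (0, 1, 0, 0)) (hHq _) (hHB _ _) (H w0) (hHq _) (hHB _ _) (hHB _ _)
    (H vd) (hHq _) (hHB _ _) (hHB _ _) (hHB _ _)
    (by rw [← hlin, hHH]) (by rw [← hlin, hHH]) (by rw [← hlin, hHH]) (by rw [← hlin, hHH])
  rcases hab with ⟨e1, e2, e3, e4⟩ | ⟨b, hb, hab, e1, e2, e3, e4⟩
  · exfalso
    refine refl_not_mem (a := emb a) (by rw [q6_emb, ha]) ?_
    have : g = sg y * refl Q6 (emb a) := by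
      refine ext6 ?_ ?_ ?_ ?_ ?_ ?_ <;> rw [mul_apply, refl6 (by rw [q6_emb, ha])]
      · rw [rf_emb_u0, sg_u0, hg]
      · rw [rf_emb_v0, sg_v0]; exact stab_v0 hg
      · rw [rf_emb, sg_apply, ← e1]; exact hd _
      · rw [rf_emb, sg_apply, ← e2]; exact hd _
      · rw [rf_emb, sg_apply, ← e3]; exact hd _
      · rw [rf_emb, sg_apply, ← e4]; exact hd _
    have h3 := mul_mem (inv_mem (hsg y)) hE
    rwa [this, inv_mul_cancel_left] at h3
  · have hgeq : g = sg y * rr a b := by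
      refine ext6 ?_ ?_ ?_ ?_ ?_ ?_ <;> rw [mul_apply]
      · rw [rr_u0 ha hb, sg_u0, hg]
      · rw [rr_v0 ha hb, sg_v0]; exact stab_v0 hg
      · rw [rr_emb ha hb, sg_apply, ← e1]; exact hd _
      · rw [rr_emb ha hb, sg_apply, ← e2]; exact hd _
      · rw [rr_emb ha hb, sg_apply, ← e3]; exact hd _
      · rw [rr_emb ha hb, sg_apply, ← e4]; exact hd _
    have hfix : r4 a (r4 b y) = y := by
      conv_rhs => rw [← hHy]
      show _ = (g.1 (emb y)).2.2
      rw [hgeq, mul_apply, rr_emb ha hb, sg_apply]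
      simp [sgf, emb]
    obtain ⟨s, hs, hs0, hse⟩ := (by decide : ∀ a : W4, q4 a = 1 → ∀ b : W4, q4 b = 1 → B4 a b = 0 →
      ∀ w : W4, r4 a (r4 b w) = w → ∃ s : V6, q6 s = 0 ∧ s ≠ 0 ∧
        ∀ x : V6, B6 x s = 0 → sgf w (rf (emb a) (rf (emb b) x)) + x = 0 ∨
          sgf w (rf (emb a) (rf (emb b) x)) + x = s) a ha b hb hab y hfix
    refine ⟨s, hs, hs0, fun x hx => ?_⟩
    rw [hgeq, mul_apply, sg_apply, rr_apply ha hb]
    exact hse x hx

/-! ### Counting -/

/-- An element of order five commutes with no nontrivial even involution. -/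
theorem no_invol_comm5 {σ τ : Orth Q6} (hσ : σ ^ 5 = 1) (hσ1 : σ ≠ 1) (hτ : τ * τ = 1) (hτE : τ ∈ Ev)
    (hc : Commute σ τ) : τ = 1 := by
  classical
  haveI : Fact (Nat.Prime 5) := ⟨by norm_num⟩
  let p : Orth Q6 →* Equiv.Perm V6 :=
    { toFun := fun g => g.1.toEquiv
      map_one' := rfl
      map_mul' := fun _ _ => rfl }
  -- fixed points of the element of order five in an invariant set
  have hmod : ∀ S : Finset V6, (∀ x, x ∈ S ↔ σ.1 x ∈ S) →
      (S.filter fun x => σ.1 x = x).card ≡ S.card [MOD 5] := by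
    intro S hS
    let π : Equiv.Perm {x // x ∈ S} := (p σ).subtypePerm fun x => (hS x).symm
    have hπ : π ^ 5 ^ 1 = 1 := by
      refine Equiv.ext fun y => Subtype.ext ?_
      simp [π, Equiv.Perm.subtypePerm_pow, ← map_pow, hσ]
    have h5 := Equiv.Perm.card_compl_support_modEq (p := 5) (n := 1) hπ
    rw [Fintype.card_coe] at h5
    convert h5 using 1
    refine Finset.card_bij (fun x hx => ⟨x, (Finset.mem_filter.1 hx).1⟩) (fun x hx => ?_)
      (fun a _ b _ h => congrArg Subtype.val h) (fun b hb => ?_)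
    · rw [Finset.mem_compl, Equiv.Perm.mem_support, not_not]
      exact Subtype.ext (Finset.mem_filter.1 hx).2
    · rw [Finset.mem_compl, Equiv.Perm.mem_support, not_not] at hb
      exact ⟨b.1, Finset.mem_filter.2 ⟨b.2, congrArg Subtype.val hb⟩, rfl⟩
  have hinj : ∀ x y, σ.1 x = σ.1 y → x = y := fun x y h => σ.1.injective h
  set F : Finset V6 := Finset.univ.filter fun x => σ.1 x = x with hF
  set Fix : AddSubgroup V6 :=
    { carrier := {x | σ.1 x = x}
      zero_mem' := g_zero σ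
      add_mem' := fun {x y} hx hy => show σ.1 (x + y) = x + y by rw [g_add, hx, hy]
      neg_mem' := fun {x} hx => show σ.1 (-x) = -x by rw [map_neg, hx] } with hFix
  have hFixc : Nat.card Fix = F.card := by
    rw [Nat.card_eq_fintype_card]
    exact Fintype.card_of_subtype F (fun x => by simp [hF, hFix])
  have hV : Nat.card V6 = 2 ^ 6 := by simp [V6, W4, Nat.card_prod]
  obtain ⟨k, hk, hk'⟩ := (Nat.dvd_prime_pow Nat.prime_two).1 (hV ▸ Fix.card_addSubgroup_dvd_card)
  have hm1 : F.card % 5 = 4 := hmod Finset.univ (fun x => by simp)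
  rw [← hFixc, hk'] at hm1
  have hk2 : k = 2 := by
    interval_cases k <;> first | rfl | (norm_num at hm1; done) | skip
    exfalso
    refine hσ1 (orth_ext fun x => ?_)
    have htop : Fix = ⊤ := AddSubgroup.eq_top_of_card_eq _ (hk'.trans hV.symm)
    exact (htop.ge (AddSubgroup.mem_top x) : x ∈ Fix)
  have hF4 : F.card = 4 := by rw [← hFixc, hk', hk2]; rfl
  -- singular fixed points
  have hm2 : ((Finset.univ.filter fun x => q6 x = 0).filter fun x => σ.1 x = x).card % 5 = 3 := by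
    have := hmod (Finset.univ.filter fun x => q6 x = 0) (fun x => by simp [q6_g])
    rw [show (Finset.univ.filter fun x : V6 => q6 x = 0).card = 28 by decide] at this
    exact this
  obtain ⟨n, hn, hnq⟩ : ∃ n ∈ F, q6 n = 1 := by
    by_contra! hall
    have e : ((Finset.univ.filter fun x => q6 x = 0).filter fun x => σ.1 x = x) = F := by
      ext x
      simp only [hF, Finset.mem_filter, Finset.mem_univ, true_and]
      exact ⟨fun h => h.2, fun h => ⟨(zcases _).resolve_right (hall x (by simp [hF, h])), h⟩⟩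
    rw [e, hF4] at hm2
    norm_num at hm2
  have huniq : ∀ m ∈ F, q6 m = 1 → m = n := by
    intro m hm hmq
    by_contra hne
    have hsub : ((Finset.univ.filter fun x => q6 x = 0).filter fun x => σ.1 x = x) ⊆ (F.erase n).erase m := by
      intro x hx
      simp only [Finset.mem_filter, Finset.mem_univ, true_and] at hx
      simp only [Finset.mem_erase, hF, Finset.mem_filter, Finset.mem_univ, true_and]
      refine ⟨?_, ?_, hx.2⟩ <;> rintro rfl
      · rw [hmq] at hx; exact absurd hx.1 (by decide)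
      · rw [hnq] at hx; exact absurd hx.1 (by decide)
    have := Finset.card_le_card hsub
    rw [Finset.card_erase_of_mem (Finset.mem_erase.2 ⟨hne, hm⟩), Finset.card_erase_of_mem hn, hF4] at this
    omega
  obtain ⟨a, ha, ha0, han⟩ : ∃ a ∈ F, a ≠ 0 ∧ a ≠ n := by
    by_contra! hall
    have : F ⊆ {0, n} := fun x hx => by
      by_cases h0 : x = 0
      · simp [h0]
      · simp [hall x hx h0]
    have := (Finset.card_le_card this).trans Finset.card_le_two
    omega
  have haq : q6 a = 0 := (zcases _).resolve_right fun h => han (huniq a ha h)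
  have hσn : σ.1 n = n := (Finset.mem_filter.1 hn).2
  have hσa : σ.1 a = a := (Finset.mem_filter.1 ha).2
  set b := a + n with hb
  have hbF : b ∈ F := Finset.mem_filter.2 ⟨Finset.mem_univ _, by rw [hb, g_add, hσa, hσn]⟩
  have hbq : q6 b = 0 := (zcases _).resolve_right fun h => ha0 (by
    have := huniq b hbF h
    rw [hb] at this
    rw [v6_add_eq this, v6_add_self])
  have hanB : B6 a n = 1 := by
    rw [hb, q6_add, haq, hnq, zero_add, zadd] at hbq
    exact hbq.symm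
  have hn0 : n ≠ 0 := fun h => by rw [h] at hnq; exact absurd hnq (by decide)
  have hFeq : ∀ x ∈ F, x = 0 ∨ x = n ∨ x = a ∨ x = b := by
    intro x hx
    have hsub : ({0, n, a, b} : Finset V6) ⊆ F := by
      intro y hy
      simp only [Finset.mem_insert, Finset.mem_singleton] at hy
      rcases hy with rfl | rfl | rfl | rfl
      · simp [hF, g_zero]
      · exact hn
      · exact ha
      · exact hbF
    have hne1 : (0 : V6) ∉ ({n, a, b} : Finset V6) := by
      simp only [Finset.mem_insert, Finset.mem_singleton, not_or]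
      exact ⟨hn0.symm, ha0.symm, fun h => han (by
        rw [hb] at h; rw [v6_add_eq h.symm, zero_add])⟩
    have hne2 : n ∉ ({a, b} : Finset V6) := by
      simp only [Finset.mem_insert, Finset.mem_singleton, not_or]
      refine ⟨han.symm, fun h => ha0 ?_⟩
      rw [hb] at h; rw [v6_add_eq h.symm, v6_add_self]
    have hne3 : a ≠ b := fun h => hn0 (by
      rw [hb] at h
      exact add_left_cancel (a := a) (by rw [← h, add_zero]))
    have heq := Finset.eq_of_subset_of_card_le hsub (by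
      rw [Finset.card_insert_of_notMem hne1, Finset.card_insert_of_notMem hne2, Finset.card_pair hne3, hF4])
    rw [← heq] at hx
    simpa using hx
  -- the image of `τ + 1` is fixed
  have hττ : ∀ x, τ.1 (τ.1 x) = x := fun x => by rw [← mul_apply, hτ, one_apply]
  have hστ : ∀ x, σ.1 (τ.1 x) = τ.1 (σ.1 x) := fun x => by rw [← mul_apply, hc.eq, mul_apply]
  let D : V6 →+ V6 := AddMonoidHom.mk' (fun x => τ.1 x + x) fun x y => by rw [g_add]; abel
  have hDR : D.range ≤ D.ker := by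
    rintro _ ⟨x, rfl⟩
    show τ.1 (τ.1 x + x) + (τ.1 x + x) = 0
    rw [g_add, hττ, add_comm x (τ.1 x)]; exact v6_add_self _
  have hcard := D.ker.card_mul_index
  rw [AddSubgroup.index_ker] at hcard
  have hle := Nat.card_le_card_of_injective (fun x : D.range => (⟨x.1, hDR x.2⟩ : D.ker))
    (fun x y h => Subtype.ext (congrArg Subtype.val h :))
  obtain ⟨i, hi, hi'⟩ := (Nat.dvd_prime_pow Nat.prime_two).1 (hV ▸ D.range.card_addSubgroup_dvd_card)
  have hi3 : i ≤ 3 := by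
    by_contra h4
    have : 16 ≤ Nat.card D.range := hi' ▸ Nat.pow_le_pow_right (by norm_num : 0 < 2) (by omega : 4 ≤ i)
    rw [hV] at hcard
    nlinarith
  set R : Finset V6 := Finset.univ.filter fun x => x ∈ D.range with hR
  have hRc : Nat.card D.range = R.card := by
    rw [Nat.card_eq_fintype_card]
    exact Fintype.card_of_subtype R (fun x => by simp [hR])
  have hm3 := hmod R (fun x => by
    simp only [hR, Finset.mem_filter, Finset.mem_univ, true_and]
    constructor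
    · rintro ⟨y, rfl⟩
      exact ⟨σ.1 y, show τ.1 (σ.1 y) + σ.1 y = σ.1 (τ.1 y + y) by rw [g_add, hστ]⟩
    · rintro ⟨y, hy⟩
      refine ⟨(σ⁻¹).1 y, σ.1.injective ?_⟩
      show σ.1 (τ.1 ((σ⁻¹).1 y) + (σ⁻¹).1 y) = σ.1 x
      rw [g_add, hστ, self_apply_inv]; exact hy)
  have hRF : Nat.card ↥(D.range ⊓ Fix) = (R.filter fun x => σ.1 x = x).card := by
    rw [Nat.card_eq_fintype_card]
    exact Fintype.card_of_subtype _ (fun x => by simp [hR, hFix])
  obtain ⟨j, hj, hj'⟩ := (Nat.dvd_prime_pow Nat.prime_two).1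
    (hi' ▸ AddSubgroup.card_dvd_of_le (inf_le_left : D.range ⊓ Fix ≤ D.range))
  have hij : j = i := by
    rw [← hRF, hj', ← hRc, hi'] at hm3
    interval_cases i <;> interval_cases j <;> first | rfl | exact absurd hm3 (by decide)
  have hfix : ∀ x, D x ∈ F := fun x => by
    have h := AddSubgroup.eq_of_le_of_card_ge (inf_le_left : D.range ⊓ Fix ≤ D.range)
      (by rw [hj', hi', hij])
    have h' : D x ∈ Fix := (h.ge ⟨x, rfl⟩).2
    exact Finset.mem_filter.2 ⟨Finset.mem_univ _, h'⟩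
  -- `τ` is the identity or the reflection in `n`
  have hτF : ∀ x ∈ F, τ.1 x ∈ F := fun x hx => Finset.mem_filter.2 ⟨Finset.mem_univ _, by
    rw [hστ, (Finset.mem_filter.1 hx).2]⟩
  have hτn : τ.1 n = n := huniq _ (hτF n hn) (by rw [q6_g, hnq])
  have hd : ∀ x, τ.1 x = x + D x := fun x => by
    show τ.1 x = x + (τ.1 x + x)
    rw [add_comm (τ.1 x), ← add_assoc, v6_add_self, zero_add]
  have hDq : ∀ x, q6 (D x) + B6 x (D x) = 0 := fun x => by
    have h := q6_g τ x
    rw [hd, q6_add, add_assoc, add_eq_left] at h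
    exact h
  rcases hFeq _ (hτF a ha) with e | e | e | e
  · exact absurd (τ.1.map_eq_zero_iff.1 e) ha0
  · exact absurd (τ.1.injective (e.trans hτn.symm)) han
  · -- `τ` fixes the plane
    have hDp : ∀ x, ∀ f, τ.1 f = f → B6 (D x) f = 0 := fun x f hf => by
      have := B6_g τ x f
      rw [hf, hd, B6_add_left, add_eq_left] at this
      exact this
    refine orth_ext fun x => ?_
    rw [one_apply, hd]
    have h1 := hDp x a e
    have h2 := hDp x n hτn
    rcases hFeq _ (hfix x) with h | h | h | h <;> rw [h] at h1 h2 ⊢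
    · rw [add_zero]
    · rw [B6_comm] at h1; rw [hanB] at h1; exact absurd h1 one_ne_zero
    · rw [hanB] at h2; exact absurd h2 one_ne_zero
    · rw [hb, B6_add_left, hanB, (by decide : ∀ v : V6, B6 v v = 0) n] at h2
      exact absurd h2 (by decide)
  · exfalso
    refine refl_not_mem hnq ?_
    have hττb : τ.1 b = a := by rw [← e, hττ]
    have : τ = refl Q6 n := by
      refine orth_ext fun x => ?_
      rw [refl6 hnq, rf, hd]
      congr 1
      have hB : B6 (D x) b = B6 x n := by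
        have := B6_g τ x a
        rw [e, hd, B6_add_left, hb, B6_add_right x a n] at this
        rw [← hb] at this
        have h' : B6 x n + B6 (D x) b = 0 := by linear_combination this
        exact (zadd.1 h').symm
      rcases hFeq _ (hfix x) with h | h | h | h <;> rw [h] at hB ⊢
      · rw [(by decide : ∀ v : V6, B6 0 v = 0) b] at hB
        rw [← hB, zero_smul]
      · rw [hb, B6_add_right, B6_comm, hanB, (by decide : ∀ v : V6, B6 v v = 0) n, add_zero] at hB
        rw [← hB, one_smul]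
      · have h0 : D (τ.1 x) = D x := by
          show τ.1 (τ.1 x) + τ.1 x = τ.1 x + x
          rw [hττ, add_comm]
        have h2 : τ.1 (D x) = D x := by
          show τ.1 (τ.1 x + x) = τ.1 x + x
          rw [g_add, hττ, add_comm]
        rw [h, e] at h2
        exact absurd (add_left_cancel (a := a) (h2.trans (add_zero a).symm)) hn0
      · have h2 : τ.1 (D x) = D x := by
          show τ.1 (τ.1 x + x) = τ.1 x + x
          rw [g_add, hττ, add_comm]
        rw [h, hττb] at h2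
        exact absurd (add_left_cancel (a := a) ((add_zero a).trans h2)).symm hn0
    rwa [this] at hτE

/-- An involution fixes a singular vector. -/
theorem exists_fixed {g : Orth Q6} (h : g * g = 1) : ∃ s, q6 s = 0 ∧ s ≠ 0 ∧ g.1 s = s := by
  by_contra! hall
  let S := {s : V6 // q6 s = 0 ∧ s ≠ 0}
  have hgg : ∀ x, g.1 (g.1 x) = x := fun x => by rw [← mul_apply, h, one_apply]
  have := even_natCard_of_involution (fun s : S => (⟨g.1 s.1, by rw [q6_g]; exact s.2.1,
    fun e => s.2.2 (g.1.map_eq_zero_iff.1 e)⟩ : S)) (fun s => Subtype.ext (hgg s.1))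
    (fun s e => hall s.1 s.2.1 s.2.2 (congrArg Subtype.val e))
  rw [Nat.card_eq_fintype_card, show Fintype.card S = 27 by
    rw [Fintype.card_subtype]
    exact (by decide : (Finset.univ.filter fun s : V6 => q6 s = 0 ∧ s ≠ 0).card = 27)] at this
  exact absurd this (by decide)

/-- An element of order five fixing `u0`. -/
theorem exists_five : ∃ g ∈ Ev, g.1 u0 = u0 ∧ g ^ 5 = 1 ∧ g ≠ 1 := by
  obtain ⟨a, ha, b, hb, c, hc, d, hd, h⟩ := (by decide : ∃ a : W4, q4 a = 1 ∧ ∃ b : W4, q4 b = 1 ∧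
    ∃ c : W4, q4 c = 1 ∧ ∃ d : W4, q4 d = 1 ∧ (fun f : W4 → W4 =>
      f w0 ≠ w0 ∧ ∀ x, f (f (f (f (f x)))) = x) fun x => r4 a (r4 b (r4 c (r4 d x))))
  refine ⟨rr a b * rr c d, mul_mem (rr_mem' ha hb) (rr_mem' hc hd), ?_, ?_, ?_⟩
  · rw [mul_apply, rr_u0 hc hd, rr_u0 ha hb]
  · have e : ∀ x : W4, (rr a b * rr c d).1 (emb x) = emb (r4 a (r4 b (r4 c (r4 d x)))) := fun x => by
      rw [mul_apply, rr_emb hc hd, rr_emb ha hb]
    have eu : (rr a b * rr c d).1 u0 = u0 := by rw [mul_apply, rr_u0 hc hd, rr_u0 ha hb]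
    have ev : (rr a b * rr c d).1 v0 = v0 := by rw [mul_apply, rr_v0 hc hd, rr_v0 ha hb]
    refine ext6 ?_ ?_ ?_ ?_ ?_ ?_ <;>
      simp only [pow_succ, pow_zero, one_mul, mul_apply _ (rr a b * rr c d), one_apply, eu, ev, e, h.2]
  · intro h1
    refine h.1 ?_
    have := congrArg (fun g : Orth Q6 => (g.1 (emb w0)).2.2) h1
    rw [mul_apply, rr_emb hc hd, rr_emb ha hb] at this
    exact this

/-- The code of an isometry centralizing the plane and a root transformation. -/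
theorem code_inj {g g' : Orth Q6}
    (hg : g.1 u0 = u0 ∧ g.1 (emb (1, 0, 0, 0)) = emb (1, 0, 0, 0) ∧
      g.1 (emb (0, 1, 0, 0)) = emb (0, 1, 0, 0) ∧ Commute g (sg w0))
    (hg' : g'.1 u0 = u0 ∧ g'.1 (emb (1, 0, 0, 0)) = emb (1, 0, 0, 0) ∧
      g'.1 (emb (0, 1, 0, 0)) = emb (0, 1, 0, 0) ∧ Commute g' (sg w0))
    (h : (g.1 v0).2.2.2.2 = (g'.1 v0).2.2.2.2) (h' : (g.1 (emb vd)).2.2.2.2.1 = (g'.1 (emb vd)).2.2.2.2.1) :
    g = g' := by
  have key : ∀ {g : Orth Q6}, (g.1 u0 = u0 ∧ g.1 (emb (1, 0, 0, 0)) = emb (1, 0, 0, 0) ∧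
      g.1 (emb (0, 1, 0, 0)) = emb (0, 1, 0, 0) ∧ Commute g (sg w0)) →
      g.1 v0 = (q4 (0, 0, (g.1 v0).2.2.2.2), 1, 0, 0, (g.1 v0).2.2.2.2) ∧
      g.1 (emb w0) = ((g.1 v0).2.2.2.2.2, 0, w0) ∧
      g.1 (emb vd) = ((g.1 v0).2.2.2.2.1 + (g.1 v0).2.2.2.2.2 * (g.1 (emb vd)).2.2.2.2.1, 0, 0, 0,
        (g.1 (emb vd)).2.2.2.2.1, 1) := by
    intro g ⟨hu, he1, he2, hc⟩
    have hP : ∀ x, B6 x (emb (1, 0, 0, 0)) = 0 → B6 x (emb (0, 1, 0, 0)) = 0 →
        (g.1 x).2.2.1 = 0 ∧ (g.1 x).2.2.2.1 = 0 := fun x hx hy =>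
      (by decide : ∀ y : V6, B6 y (emb (1, 0, 0, 0)) = 0 → B6 y (emb (0, 1, 0, 0)) = 0 →
        y.2.2.1 = 0 ∧ y.2.2.2.1 = 0) _ (by conv_lhs => rw [← he1]
                                           rw [B6_g]; exact hx)
        (by conv_lhs => rw [← he2]
            rw [B6_g]; exact hy)
    have hy := stab_v0 hu
    obtain ⟨p1, p2⟩ := hP v0 (by decide) (by decide)
    have hy' : g.1 v0 = (q4 (0, 0, (g.1 v0).2.2.2.2), 1, 0, 0, (g.1 v0).2.2.2.2) := by
      generalize g.1 v0 = y at hy p1 p2 ⊢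
      obtain ⟨a, b, c, d, e⟩ := y
      simp only at p1 p2
      subst p1 p2
      exact hy
    have hw : g.1 (emb w0) = ((g.1 v0).2.2.2.2.2, 0, w0) := by
      have h1 : g.1 ((sg w0).1 v0) = (sg w0).1 (g.1 v0) := by rw [← mul_apply, hc.eq, mul_apply]
      rw [sg_v0, show ((q4 w0, 1, w0) : V6) = u0 + v0 + emb w0 by decide, g_add, g_add, hu] at h1
      have h2 : g.1 (emb w0) = (sg w0).1 (g.1 v0) + g.1 v0 + u0 := by
        rw [← h1, show u0 + g.1 v0 + g.1 (emb w0) + g.1 v0 + u0 =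
          (u0 + u0) + (g.1 v0 + g.1 v0) + g.1 (emb w0) by abel, v6_add_self, v6_add_self, add_zero,
          zero_add]
      rw [h2, hy', sg_apply]
      generalize (g.1 v0).2.2.2.2 = c
      revert c; decide
    refine ⟨hy', hw, ?_⟩
    obtain ⟨r1, r2⟩ := hP (emb vd) (by decide) (by decide)
    have hB1 : B6 (g.1 (emb vd)) u0 = 0 := by
      conv_lhs => rw [← hu]
      rw [B6_g]; rfl
    have hB2 : B6 (g.1 (emb vd)) (g.1 v0) = 0 := by rw [B6_g]; rfl
    have hB3 : B6 (g.1 (emb vd)) (g.1 (emb w0)) = 1 := by rw [B6_g]; rfl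
    rw [hw] at hB3
    rw [hy'] at hB2
    generalize g.1 (emb vd) = z at r1 r2 hB1 hB2 hB3 ⊢
    generalize (g.1 v0).2.2.2.2 = c at hB2 hB3 ⊢
    obtain ⟨za, zb, zc, zd, ze⟩ := z
    simp only at r1 r2
    subst r1 r2
    revert za zb ze c
    decide
  obtain ⟨a1, a2, a3⟩ := key hg
  obtain ⟨b1, b2, b3⟩ := key hg'
  refine ext6 (hg.1.trans hg'.1.symm) ?_ (hg.2.1.trans hg'.2.1.symm) (hg.2.2.1.trans hg'.2.2.1.symm) ?_ ?_
  · rw [a1, b1, h]
  · rw [a2, b2, h]
  · rw [a3, b3, h, h']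

/-- Coordinates of the standard elliptic form. -/
def coord6 : ((Fin 2 ⊕ Fin 2) ⊕ Fin 2 → ZMod 2) ≃ₗ[ZMod 2] V6 where
  toFun v := (v (.inl (.inl 0)), v (.inl (.inr 0)), v (.inl (.inl 1)), v (.inl (.inr 1)), v (.inr 0), v (.inr 1))
  invFun x := Sum.elim (Sum.elim ![x.1, x.2.2.1] ![x.2.1, x.2.2.2.1]) ![x.2.2.2.2.1, x.2.2.2.2.2]
  left_inv v := by ext ((i | i) | i) <;> fin_cases i <;> rfl
  right_inv _ := rfl
  map_add' _ _ := rfl
  map_smul' _ _ := rfl

theorem coord6_spec (v : (Fin 2 ⊕ Fin 2) ⊕ Fin 2 → ZMod 2) :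
    Q6 (coord6 v) = Cfsg.quadFormMinus 2 (ZMod 2) 1 1 v := by
  show q6 (_, _, _, _, _, _) = _
  simp only [q6, q4, Cfsg.quadFormMinus, Fin.sum_univ_two]
  ring

theorem card_orth6 : Nat.card (Orth Q6) = 51840 := by
  rw [← Nat.card_congr (isometryEquivModel coord6 coord6_spec).toEquiv,
    CfsgLib.Classical.SmallIso.card_isometryGroup_minus
      (show CfsgLib.Classical.Quad.IsAniso (1 : ZMod 2) 1 by unfold CfsgLib.Classical.Quad.IsAniso; decide),
    Nat.card_zmod]
  norm_num [Finset.prod_range_succ]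

theorem card_omega6 : Nat.card (Cfsg.Omega (ZMod 2) (Cfsg.quadFormMinus 2 (ZMod 2) 1 1)) = 25920 := by
  have h := Subgroup.card_mul_index Ev
  rw [card_orth6, index_Ev] at h
  rw [Nat.card_congr (commutatorEquiv (isometryEquivModel coord6 coord6_spec)).toEquiv]
  change Nat.card Ev = 25920
  omega

end CfsgLib.SuzType
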