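import Cfsg.Agent.Lib.SuzType.Basic

/-!
# Two members of the class, each in the extraspecial subgroup of the other
-/

set_option autoImplicit false
set_option linter.style.haveILetI false
set_option synthInstance.maxSize 20000
set_option maxRecDepth 10000

namespace CfsgLib.SuzType

open CfsgLib.Classical.Quad

universe u

variable {G : Type u} [Group G]

theorem pw_eq_pw {s u : G} (hu : u ≠ 1) (hne : u ≠ s) {a b : ZMod 2} (h : pw s a = pw u b) : b = 0 := by
  rcases zcases b with rfl | rfl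
  · rfl
  rcases zcases a with rfl | rfl <;> simp only [pw_zero, pw_one] at h
  exacts [absurd h.symm hu, absurd h.symm hne]

theorem rr_triple {a b : W4} (ha : q4 a = 1) (hb : q4 b = 1) (x y : ZMod 2) (w : W4) :
    (rr a b).1 (x, y, w) = (x, y, r4 a (r4 b w)) := by
  rw [rr_apply ha hb]
  simp [rf, r4, emb, B6]

theorem rf_emb_triple (a : W4) (x y : ZMod 2) (w : W4) : rf (emb a) (x, y, w) = (x, y, r4 a w) := by
  simp [rf, r4, emb, B6]

theorem zadd_v6 {x y : V6} : x + y = 0 ↔ x = y :=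
  ⟨fun h => by rw [v6_add_eq h, zero_add], fun h => by rw [h, v6_add_self]⟩

theorem perp_u0 {v : V6} (h : B6 v u0 = 0) : v = (v.1, 0, v.2.2) := by revert v; decide

theorem B6_u0_emb (w : W4) : B6 (emb w) u0 = 0 := by revert w; decide

theorem Model.lift_stab {s : G} {E : Subgroup G} {π : G → V6} (M : Model s E π) {u : G} (hu : u ∈ E)
    (hπ : π u = u0) {g : Orth Q6} (hg : g ∈ Ev) (hgu : g.1 u0 = u0) :
    ∃ c, Acts s E π c g ∧ Commute c u := by
  obtain ⟨c, hc⟩ := M.lift g hg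
  have hmem := M.normal c hc.1 u hu
  rcases M.eq_of_map hmem hu (by rw [hc.2 u hu, hπ, hgu]) with e | e
  · exact ⟨c, hc, conj_eq_iff_commute.1 e⟩
  · obtain ⟨y, hy, hy'⟩ := M.surj v0
    refine ⟨y * c, by simpa using M.acts_mul (M.acts_mem hy) hc, conj_eq_iff_commute.1 ?_⟩
    rw [show y * c * u * (y * c)⁻¹ = y * (c * u * c⁻¹) * y⁻¹ by group, e,
      show y * (u * s) * y⁻¹ = y * u * y⁻¹ * (y * s * y⁻¹) by group, M.conj_eq hy hu, hy', hπ,
      show B6 v0 u0 = 1 from rfl, pw_one, conj_eq_iff_commute.2 (M.le_cent y hy), mul_assoc, M.sq_one,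
      mul_one]

/-- The membership relation is symmetric. -/
theorem Sys.mem_symm (S : Sys G) {s u : G} (hs : S.K s) (hu : S.K u) (hmem : u ∈ S.E s) (hne : u ≠ s) :
    s ∈ S.E u := by
  obtain ⟨π₀, M₀⟩ := S.model s hs
  obtain ⟨π, M, hπ⟩ := M₀.adapted hmem (S.K_sq hu).1 (S.K_sq hu).2 hne
  obtain ⟨π', N⟩ := S.model u hu
  obtain ⟨g, hgE, hgu, hg5, hg1⟩ := exists_five
  obtain ⟨c, hc, hcu⟩ := M.lift_stab hmem hπ hgE hgu
  have hc5 : c ^ 5 ∈ S.E s := M.faith _ (by rw [← hg5]; exact M.acts_pow hc 5)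
  have hx5 : (c ^ 4) ^ 5 = 1 := by rw [← pow_mul, mul_comm, pow_mul]; exact M.pow_four hc5
  have hx1 : c ^ 4 ≠ 1 := fun h => by
    have h4 : g ^ 4 = 1 := by
      have := M.acts_pow hc 4
      rw [h] at this
      exact M.acts_unique this (M.acts_mem (S.E s).one_mem)
    rw [pow_succ, h4, one_mul] at hg5
    exact hg1 hg5
  have hxu : Commute (c ^ 4) u := hcu.pow_left 4
  have hsu : Commute s u := (M.le_cent u hmem).symm
  obtain ⟨σ, -, hσ⟩ := N.act _ hxu
  obtain ⟨τ, hτE, hτ⟩ := N.act s hsu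
  have hone : Acts u (S.E u) π' 1 1 := N.acts_mem (S.E u).one_mem
  have hσ5 : σ ^ 5 = 1 := by
    have h := N.acts_pow hσ 5
    rw [hx5] at h
    exact N.acts_unique h hone
  have hσ1 : σ ≠ 1 := fun e => hx1 (by
    have h4 := N.pow_four (N.faith _ (e ▸ hσ))
    rw [pow_succ, h4, one_mul] at hx5
    exact hx5)
  have hτ2 : τ * τ = 1 := by
    have h := N.acts_mul hτ hτ
    rw [(S.K_sq hs).1] at h
    exact N.acts_unique h hone
  have hcomm : Commute σ τ := by
    have h1 := N.acts_mul hσ hτ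
    rw [(hc.1.pow_left 4).eq] at h1
    exact N.acts_unique h1 (N.acts_mul hτ hσ)
  exact N.faith s (no_invol_comm5 hσ5 hσ1 hτ2 hτE hcomm ▸ hτ)

/-- Two members, each in the subgroup of the other, with adapted coordinates. -/
structure Pair (S : Sys G) (s u : G) (π π' : G → V6) : Prop where
  Ks : S.K s
  Ku : S.K u
  left : Model s (S.E s) π
  right : Model u (S.E u) π'
  memE : u ∈ S.E s
  memR : s ∈ S.E u
  ne : u ≠ s
  hu : π u = u0
  hs : π' s = u0

/-- Pairs exist around every singular element. -/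
theorem Sys.exists_pair (S : Sys G) {s u : G} (hs : S.K s) {π : G → V6} (M : Model s (S.E s) π)
    (hu : u ∈ S.E s) (huu : u * u = 1) (hπ : π u = u0) : ∃ π', Pair S s u π π' := by
  have hu1 : u ≠ 1 := fun e => by rw [e, M.map_one] at hπ; exact absurd hπ (by decide)
  have hus : u ≠ s := fun e => by rw [e, M.map_s] at hπ; exact absurd hπ (by decide)
  have hK := S.K_of_mem hs hu huu hu1
  have hsu := S.mem_symm hs hK hu hus
  obtain ⟨π₀, N₀⟩ := S.model u hK
  obtain ⟨π', N, hN⟩ := N₀.adapted hsu M.sq_one M.ne_one hus.symm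
  exact ⟨π', hs, hK, M, N, hu, hsu, hus, hπ, hN⟩

/-- Every member lies in a pair. -/
theorem Sys.exists_pair_at (S : Sys G) {s : G} (hs : S.K s) :
    ∃ u π π', Pair S s u π π' := by
  obtain ⟨π₀, M₀⟩ := S.model s hs
  obtain ⟨u, hu, hus, huK⟩ := S.nwc s hs
  obtain ⟨π, M, hπ⟩ := M₀.adapted hu (S.K_sq huK).1 (S.K_sq huK).2 hus
  obtain ⟨π', p⟩ := S.exists_pair hs M hu (S.K_sq huK).1 hπ
  exact ⟨u, π, π', p⟩

/-- `t` lies in `E u`, centralizes `s` and acts by the root transformation of `w`. -/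
def Br (S : Sys G) (s u : G) (π : G → V6) (t : G) (w : W4) : Prop :=
  t ∈ S.E u ∧ Acts s (S.E s) π t (sg w)

namespace Pair

variable {S : Sys G} {s u : G} {π π' : G → V6} (p : Pair S s u π π')
include p

theorem symm : Pair S u s π' π :=
  ⟨p.Ku, p.Ks, p.right, p.left, p.memR, p.memE, p.ne.symm, p.hs, p.hu⟩

theorem comm : Commute s u := (p.left.le_cent u p.memE).symm

theorem map_pwu (c : ZMod 2) : π (pw u c) = (c, 0, 0) := by
  rcases zcases c with rfl | rfl
  · rw [pw_zero, p.left.map_one]; rfl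
  · rw [pw_one, p.hu]; rfl

theorem pwu_mem (c : ZMod 2) : pw u c ∈ S.E s ∧ pw u c ∈ S.E u := by
  refine ⟨?_, p.right.pw_mem c⟩
  rcases zcases c with rfl | rfl
  · rw [pw_zero]; exact (S.E s).one_mem
  · rw [pw_one]; exact p.memE

theorem pws_mem (c : ZMod 2) : pw s c ∈ S.E s ∧ pw s c ∈ S.E u := (p.symm.pwu_mem c).symm

theorem dd_mem (b a : ZMod 2) : pw u b * pw s a ∈ S.E s ∧ pw u b * pw s a ∈ S.E u :=
  ⟨(S.E s).mul_mem (p.pwu_mem b).1 (p.pws_mem a).1, (S.E u).mul_mem (p.pwu_mem b).2 (p.pws_mem a).2⟩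

theorem map_dd (b a : ZMod 2) : π (pw u b * pw s a) = (b, 0, 0) := by
  rw [p.left.map_mul _ (p.pwu_mem b).1 _ (p.pws_mem a).1, p.map_pwu, p.left.map_pw, add_zero]

/-- An element of `E s` with image in the line of `u0` is a product of powers of `u` and `s`. -/
theorem repr_of_map {q : G} (hq : q ∈ S.E s) {b : ZMod 2} (h : π q = (b, 0, 0)) :
    ∃ a, q = pw u b * pw s a := by
  rcases p.left.eq_of_map hq (p.pwu_mem b).1 (by rw [h, p.map_pwu]) with e | e
  · exact ⟨0, by rw [pw_zero, mul_one, e]⟩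
  · exact ⟨1, by rw [pw_one, e]⟩

theorem mem_of_map {q : G} (hq : q ∈ S.E s) (h1 : (π q).2.1 = 0) (h2 : (π q).2.2 = 0) : q ∈ S.E u := by
  obtain ⟨a, e⟩ := p.repr_of_map hq (b := (π q).1) (by ext <;> simp [h1, h2])
  rw [e]
  exact (p.dd_mem _ a).2

theorem dd_inj {b a b' a' : ZMod 2} (h : pw u b * pw s a = pw u b' * pw s a') : b = b' ∧ a = a' := by
  have h1 := congrArg π h
  rw [p.map_dd, p.map_dd] at h1
  have hb : b = b' := congrArg Prod.fst h1
  subst hb
  exact ⟨rfl, pw_inj p.left.ne_one (mul_left_cancel h)⟩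

theorem perp_of_comm {q : G} (hq : q ∈ S.E s) (hc : Commute q u) : B6 (π q) u0 = 0 := by
  rw [← p.hu]; exact (p.left.commute_iff hq p.memE).1 hc

theorem comm_of_perp {q : G} (hq : q ∈ S.E s) (h : B6 (π q) u0 = 0) : Commute q u :=
  (p.left.commute_iff hq p.memE).2 (by rw [p.hu]; exact h)

/-- The intersection of the two subgroups. -/
theorem inter {q : G} (hq : q ∈ S.E s) (hq' : q ∈ S.E u) : ∃ b a, q = pw u b * pw s a := by
  have hsing : ∀ r, r ∈ S.E s → r ∈ S.E u → q6 (π r) = 0 := fun r hr hr' => by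
    have h : pw u (q6 (π' r)) = pw s (q6 (π r)) := by rw [← p.right.square r hr', p.left.square r hr]
    exact pw_eq_pw p.left.ne_one p.ne.symm h
  have hperp := perp_u0 (p.perp_of_comm hq (p.right.le_cent q hq'))
  set w := (π q).2.2 with hw
  have hwq : q4 w = 0 := by
    have := hsing q hq hq'
    rw [hperp] at this
    simpa [q6] using this
  by_cases hw0 : w = 0
  · obtain ⟨a, ha⟩ := p.repr_of_map hq (b := (π q).1) (by rw [hperp, hw0])
    exact ⟨_, a, ha⟩
  exfalso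
  obtain ⟨a, ha, b, hb, hab⟩ := (by decide : ∀ w : W4, q4 w = 0 → w ≠ 0 →
    ∃ a, q4 a = 1 ∧ ∃ b, q4 b = 1 ∧ q4 (w + r4 a (r4 b w)) = 1) w hwq hw0
  obtain ⟨c, hc, hcu⟩ := p.left.lift_stab p.memE p.hu (rr_mem' ha hb) (rr_u0 ha hb)
  have h1 := p.left.normal c hc.1 q hq
  have h3 := hsing _ ((S.E s).mul_mem hq h1) ((S.E u).mul_mem hq' (p.right.normal c hcu q hq'))
  rw [p.left.map_mul q hq _ h1, hc.2 q hq, hperp, rr_triple ha hb] at h3
  simp only [q6, Prod.snd_add, Prod.fst_add, CharTwo.add_self_eq_zero, add_zero, zero_mul, zero_add,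
    mul_zero] at h3
  rw [hab] at h3
  exact one_ne_zero h3

theorem inter_sq {d : G} (hd : d ∈ S.E s) (hd' : d ∈ S.E u) : d * d = 1 := by
  obtain ⟨b, a, rfl⟩ := p.inter hd hd'
  have h1 : pw s a * pw u b = pw u b * pw s a := (commute_pw (commute_pw p.comm b).symm a).symm.eq
  calc pw u b * pw s a * (pw u b * pw s a) = pw u b * (pw s a * pw u b) * pw s a := by group
    _ = pw u b * pw u b * (pw s a * pw s a) := by rw [h1]; group
    _ = 1 := by
      rw [← pw_add p.right.sq_one, ← pw_add p.left.sq_one, CharTwo.add_self_eq_zero,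
        CharTwo.add_self_eq_zero, pw_zero, pw_zero, mul_one]

theorem inter_comm {c d : G} (hd : d ∈ S.E s) (hd' : d ∈ S.E u) (hs : Commute c s) (hu : Commute c u) :
    Commute c d := by
  obtain ⟨b, a, rfl⟩ := p.inter hd hd'
  exact (commute_pw hu b).mul_right (commute_pw hs a)

/-! ### The elements of `E u` centralizing `s` -/

theorem exists_sg {t : G} (ht : t ∈ S.E u) (hts : Commute t s) : ∃ w, Br S s u π t w := by
  obtain ⟨g, -, hg⟩ := p.left.act t hts
  have hgu : g.1 u0 = u0 := by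
    rw [← p.hu, ← hg.2 u p.memE, conj_eq_iff_commute.2 (p.right.le_cent t ht)]
  refine ⟨_, ht, eq_sg hgu (fun x hx => ?_) ▸ hg⟩
  obtain ⟨q, hq, rfl⟩ := p.left.surj x
  have h1 := p.left.normal t hts q hq
  have hmem : t * q * t⁻¹ * q⁻¹ ∈ S.E u := by
    rw [show t * q * t⁻¹ * q⁻¹ = t * (q * t⁻¹ * q⁻¹) by group]
    exact (S.E u).mul_mem ht (p.right.normal q (p.comm_of_perp hq hx) _ ((S.E u).inv_mem ht))
  have hmem' := (S.E s).mul_mem h1 ((S.E s).inv_mem hq)
  obtain ⟨b, a, hba⟩ := p.inter hmem' hmem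
  have h2 := congrArg π hba
  rw [p.map_dd, p.left.map_mul _ h1 _ ((S.E s).inv_mem hq), p.left.map_inv hq, hg.2 q hq] at h2
  rcases zcases b with rfl | rfl
  · exact Or.inl h2
  · exact Or.inr h2

theorem br_comm {t : G} {w : W4} (ht : Br S s u π t w) : Commute t s ∧ Commute t u :=
  ⟨ht.2.1, p.right.le_cent t ht.1⟩

theorem br_mul {t t' : G} {w w' : W4} (ht : Br S s u π t w) (ht' : Br S s u π t' w') :
    Br S s u π (t * t') (w + w') :=
  ⟨(S.E u).mul_mem ht.1 ht'.1, sg_add w w' ▸ p.left.acts_mul ht.2 ht'.2⟩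

theorem br_inv {t : G} {w : W4} (ht : Br S s u π t w) : Br S s u π t⁻¹ w := by
  refine ⟨(S.E u).inv_mem ht.1, ?_⟩
  rw [show sg w = (sg w)⁻¹ from (inv_eq_of_mul_eq_one_left (sg_sq w)).symm]
  exact p.left.acts_inv ht.2

theorem br_zero {t : G} (ht : Br S s u π t 0) : t ∈ S.E s :=
  p.left.faith t (sg_zero ▸ ht.2)

theorem br_of_inter {d : G} (hd : d ∈ S.E s) (hd' : d ∈ S.E u) : Br S s u π d 0 :=
  ⟨hd', sg_zero.symm ▸ p.left.acts_mem hd⟩

theorem br_unique {t : G} {w w' : W4} (ht : Br S s u π t w) (ht' : Br S s u π t w') : w = w' :=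
  sg_inj (p.left.acts_unique ht.2 ht'.2)

theorem br_conj {t c : G} {w a b : W4} (ht : Br S s u π t w) (ha : q4 a = 1) (hb : q4 b = 1)
    (hc : Acts s (S.E s) π c (rr a b)) (hcu : Commute c u) :
    Br S s u π (c * t * c⁻¹) (r4 a (r4 b w)) := by
  refine ⟨p.right.normal c hcu t ht.1, ?_⟩
  have h := p.left.acts_mul (p.left.acts_mul hc ht.2) (p.left.acts_inv hc)
  rwa [rr_sg ha hb, mul_inv_cancel_right] at h

theorem right_coord {t : G} {w : W4} (ht : Br S s u π t w) :
    π' t = ((π' t).1, 0, (π' t).2.2) ∧ q6 (π' t) = q4 (π' t).2.2 := by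
  have h := perp_u0 (p.symm.perp_of_comm ht.1 ht.2.1)
  refine ⟨h, ?_⟩
  rw [h]
  simp [q6]

theorem coord_ne {t : G} {w : W4} (ht : Br S s u π t w) (hw : w ≠ 0) : (π' t).2.2 ≠ 0 := by
  intro h
  refine hw (p.br_unique ht (p.br_of_inter (p.symm.mem_of_map ht.1 ?_ h) ht.1))
  rw [(p.right_coord ht).1]

/-- A bijection between the two coordinate spaces. -/
theorem exists_br_coord : ∃ (T : W4 → G) (f : W4 → W4), Function.Bijective f ∧
    ∀ x, Br S s u π (T x) (f x) ∧ π' (T x) = emb x := by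
  choose T hT hTx using fun x => p.right.surj (emb x)
  have hTs : ∀ x, Commute (T x) s := fun x => p.symm.comm_of_perp (hT x) (by rw [hTx]; exact B6_u0_emb x)
  choose f hf using fun x => p.exists_sg (hT x) (hTs x)
  refine ⟨T, f, (Finite.injective_iff_bijective).1 fun x y hxy => ?_, fun x => ⟨hf x, hTx x⟩⟩
  by_contra hne
  have h := p.br_mul (hf x) (hf y)
  rw [hxy, w4_add_self] at h
  obtain ⟨b, a, hba⟩ := p.inter (p.br_zero h) h.1
  have h2 := congrArg π' hba
  rw [p.right.map_mul _ (hT x) _ (hT y), hTx, hTx, p.right.map_mul _ (p.pwu_mem b).2 _ (p.pws_mem a).2,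
    p.right.map_pw, p.symm.map_pwu, zero_add] at h2
  have h3 : x + y = 0 := congrArg (fun v : V6 => v.2.2) h2
  refine hne ?_
  rw [← add_zero x, ← w4_add_self y, ← add_assoc, h3, zero_add]

theorem exists_br (w : W4) : ∃ t, Br S s u π t w := by
  obtain ⟨T, f, hf, h⟩ := p.exists_br_coord
  obtain ⟨x, rfl⟩ := hf.2 w
  exact ⟨T x, (h x).1⟩

theorem sg_mem (w : W4) : sg w ∈ Ev := by
  obtain ⟨t, ht⟩ := p.exists_br w
  obtain ⟨g, hg, hga⟩ := p.left.act t ht.2.1
  exact p.left.acts_unique hga ht.2 ▸ hg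

theorem exists_q (x : W4) : ∃ q ∈ S.E s, Commute q u ∧ π q = emb x := by
  obtain ⟨q, hq, e⟩ := p.left.surj (emb x)
  exact ⟨q, hq, p.comm_of_perp hq (by rw [e]; exact B6_u0_emb x), e⟩

/-- The commutation rule. -/
theorem comm_rule {t : G} {w : W4} (ht : Br S s u π t w) {q : G} (hq : q ∈ S.E s) (hqu : Commute q u) :
    t * q * t⁻¹ = q * (pw u (B4 (π q).2.2 w) * pw s (B4 (π q).2.2 w)) := by
  classical
  -- every such commutator lies in the intersection
  have hex : ∀ {t : G} {w : W4}, Br S s u π t w → ∀ {q : G}, q ∈ S.E s → Commute q u →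
      ∃ a, t * q * t⁻¹ = q * (pw u (B4 (π q).2.2 w) * pw s a) := by
    intro t w ht q hq hqu
    have h1 := p.left.normal t ht.2.1 q hq
    have hmem : q⁻¹ * (t * q * t⁻¹) ∈ S.E s := (S.E s).mul_mem ((S.E s).inv_mem hq) h1
    have hπ : π (q⁻¹ * (t * q * t⁻¹)) = (B4 (π q).2.2 w, 0, 0) := by
      rw [p.left.map_mul _ ((S.E s).inv_mem hq) _ h1, p.left.map_inv hq, ht.2.2 q hq, add_comm, sg_move,
        perp_u0 (p.perp_of_comm hq hqu)]
      simp
    obtain ⟨a, ha⟩ := p.repr_of_map hmem hπ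
    exact ⟨a, inv_mul_eq_iff_eq_mul.1 ha⟩
  choose T hT using p.exists_br
  choose Qs hQs hQu hQπ using p.exists_q
  choose lam hlam using fun w a => hex (hT w) (hQs a) (hQu a)
  have hQW : ∀ a, (π (Qs a)).2.2 = a := fun a => by rw [hQπ]; rfl
  have hgen : ∀ {t : G} {w : W4}, Br S s u π t w → ∀ {q : G}, q ∈ S.E s → Commute q u →
      t * q * t⁻¹ = q * (pw u (B4 (π q).2.2 w) * pw s (lam w (π q).2.2)) := by
    intro t w ht q hq hqu
    obtain ⟨a, ha⟩ : ∃ a, (π q).2.2 = a := ⟨_, rfl⟩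
    rw [ha]
    obtain ⟨d, rfl⟩ : ∃ d, t = T w * d := ⟨(T w)⁻¹ * t, by group⟩
    obtain ⟨e, rfl⟩ : ∃ e, q = Qs a * e := ⟨(Qs a)⁻¹ * q, by group⟩
    have hd0 := p.br_mul (p.br_inv (hT w)) ht
    rw [inv_mul_cancel_left, w4_add_self] at hd0
    have he : e ∈ S.E s := by
      have := (S.E s).mul_mem ((S.E s).inv_mem (hQs a)) hq
      rwa [inv_mul_cancel_left] at this
    have heu : Commute e u := by
      have := (hQu a).inv_left.mul_left hqu
      rwa [inv_mul_cancel_left] at this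
    have hW : (π e).2.2 = 0 := by
      have h := ha
      rw [p.left.map_mul _ (hQs a) _ he, Prod.snd_add, Prod.snd_add, hQW] at h
      exact (add_eq_left.1 h : (π e).2.2 = 0)
    have he' : e ∈ S.E u := p.mem_of_map he (by rw [perp_u0 (p.perp_of_comm he heu)]) hW
    have h1 : Commute (Qs a * e) d :=
      p.inter_comm (p.br_zero hd0) hd0.1 (p.left.le_cent _ hq) hqu
    have h2 : Commute (T w) e := p.inter_comm he he' (hT w).2.1 (p.br_comm (hT w)).2
    have h3 : Commute e (pw u (B4 a w) * pw s (lam w a)) :=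
      p.inter_comm (p.dd_mem _ _).1 (p.dd_mem _ _).2 (p.left.le_cent e he) heu
    calc T w * d * (Qs a * e) * (T w * d)⁻¹ = T w * (d * (Qs a * e) * d⁻¹) * (T w)⁻¹ := by group
      _ = T w * Qs a * (T w)⁻¹ * (T w * e * (T w)⁻¹) := by rw [conj_eq_iff_commute.2 h1.symm]; group
      _ = Qs a * (pw u (B4 a w) * pw s (lam w a)) * e := by
        rw [hlam, hQW, conj_eq_iff_commute.2 h2]
      _ = Qs a * e * (pw u (B4 a w) * pw s (lam w a)) := by rw [mul_assoc, ← h3.eq, mul_assoc]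
  have hfix : ∀ {c : G} (b a : ZMod 2), Commute c s → Commute c u →
      c * (pw u b * pw s a) * c⁻¹ = pw u b * pw s a := fun b a hs hu =>
    conj_eq_iff_commute.2 ((commute_pw hu b).mul_right (commute_pw hs a))
  have hadd_w : ∀ w w' a, lam (w + w') a = lam w a + lam w' a := by
    intro w w' a
    have h := hgen (p.br_mul (hT w) (hT w')) (hQs a) (hQu a)
    rw [show T w * T w' * Qs a * (T w * T w')⁻¹ = T w * (T w' * Qs a * (T w')⁻¹) * (T w)⁻¹ by group,
      hlam w', show T w * (Qs a * (pw u (B4 (π (Qs a)).2.2 w') * pw s (lam w' a))) * (T w)⁻¹ =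
        T w * Qs a * (T w)⁻¹ * (T w * (pw u (B4 (π (Qs a)).2.2 w') * pw s (lam w' a)) * (T w)⁻¹) by group,
      hlam w, hfix _ _ (hT w).2.1 (p.br_comm (hT w)).2, hQW, mul_assoc, mul_right_inj] at h
    have hcc : Commute (pw s (lam w a)) (pw u (B4 a w')) :=
      (commute_pw (commute_pw p.comm _).symm _).symm
    rw [show pw u (B4 a w) * pw s (lam w a) * (pw u (B4 a w') * pw s (lam w' a)) =
      pw u (B4 a w) * (pw s (lam w a) * pw u (B4 a w')) * pw s (lam w' a) by group, hcc.eq,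
      ← mul_assoc (pw u (B4 a w)), ← pw_add p.right.sq_one, mul_assoc, ← pw_add p.left.sq_one,
      ← B4_add_right] at h
    exact (p.dd_inj h).2.symm
  have hadd_a : ∀ w a a', lam w (a + a') = lam w a + lam w a' := by
    intro w a a'
    have hmem := (S.E s).mul_mem (hQs a) (hQs a')
    have hcu := (hQu a).mul_left (hQu a')
    have h := hgen (hT w) hmem hcu
    rw [show T w * (Qs a * Qs a') * (T w)⁻¹ = T w * Qs a * (T w)⁻¹ * (T w * Qs a' * (T w)⁻¹) by group,
      hlam, hlam, p.left.map_mul _ (hQs a) _ (hQs a'), Prod.snd_add, Prod.snd_add, hQW, hQW] at h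
    have hc' : Commute (pw u (B4 a w) * pw s (lam w a)) (Qs a') :=
      ((commute_pw (hQu a') _).mul_right (commute_pw (p.left.le_cent _ (hQs a')) _)).symm
    have hcc : Commute (pw s (lam w a)) (pw u (B4 a' w)) :=
      (commute_pw (commute_pw p.comm _).symm _).symm
    rw [show Qs a * (pw u (B4 a w) * pw s (lam w a)) * (Qs a' * (pw u (B4 a' w) * pw s (lam w a'))) =
      Qs a * ((pw u (B4 a w) * pw s (lam w a)) * Qs a') * (pw u (B4 a' w) * pw s (lam w a')) by group,
      hc'.eq, ← mul_assoc (Qs a), mul_assoc (Qs a * Qs a'), mul_right_inj,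
      show pw u (B4 a w) * pw s (lam w a) * (pw u (B4 a' w) * pw s (lam w a')) =
      pw u (B4 a w) * (pw s (lam w a) * pw u (B4 a' w)) * pw s (lam w a') by group, hcc.eq,
      ← mul_assoc (pw u (B4 a w)), ← pw_add p.right.sq_one, mul_assoc, ← pw_add p.left.sq_one,
      ← B4_add_left] at h
    exact (p.dd_inj h).2.symm
  have hinv : ∀ {a b : W4}, q4 a = 1 → q4 b = 1 → ∀ w x,
      lam (r4 a (r4 b w)) (r4 a (r4 b x)) = lam w x := by
    intro a b ha hb w x
    obtain ⟨c, hc, hcu⟩ := p.left.lift_stab p.memE p.hu (rr_mem' ha hb) (rr_u0 ha hb)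
    have hmem := p.left.normal c hc.1 _ (hQs x)
    have hmu : Commute (c * Qs x * c⁻¹) u := (hcu.mul_left (hQu x)).mul_left hcu.inv_left
    have h := hgen (p.br_conj (hT w) ha hb hc hcu) hmem hmu
    rw [show c * T w * c⁻¹ * (c * Qs x * c⁻¹) * (c * T w * c⁻¹)⁻¹ = c * (T w * Qs x * (T w)⁻¹) * c⁻¹ by group,
      hlam, hQW, show c * (Qs x * (pw u (B4 x w) * pw s (lam w x))) * c⁻¹ =
        c * Qs x * c⁻¹ * (c * (pw u (B4 x w) * pw s (lam w x)) * c⁻¹) by group,
      hfix _ _ hc.1 hcu, mul_right_inj, hc.2 _ (hQs x), hQπ, rr_emb ha hb] at h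
    exact (p.dd_inj h).2.symm
  have hsing : ∀ v, q4 v = 0 → ∀ x, lam v x = B4 x v := by
    intro v hv
    have h0 : ∀ x, lam 0 x = 0 := fun x => by
      have := hadd_w 0 0 x
      rwa [add_zero, left_eq_add] at this
    by_cases hv0 : v = 0
    · intro x; rw [hv0, h0, B4_zero_right]
    set y : W4 := (lam v (0, 1, 0, 0), lam v (1, 0, 0, 0), lam v vd, lam v w0) with hy
    have hlin : ∀ x, lam v x = B4 x y := by
      intro x
      let L : W4 →+ ZMod 2 := AddMonoidHom.mk' (lam v) (hadd_a v)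
      show (L.toZModLinearMap 2) x = _
      conv_lhs => rw [(by decide : ∀ x : W4, x = x.1 • ((1, 0, 0, 0) : W4) + x.2.1 • ((0, 1, 0, 0) : W4) +
        x.2.2.1 • w0 + x.2.2.2 • vd) x]
      simp only [map_add, map_smul, AddMonoidHom.coe_toZModLinearMap, L, AddMonoidHom.mk'_apply, smul_eq_mul,
        B4, hy]
      ring
    have hy0 : y ≠ 0 := by
      intro hy0
      refine p.coord_ne (hT v) hv0 ?_
      have hperp : ∀ w', B4 (π' (T v)).2.2 w' = 0 := by
        intro w'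
        obtain ⟨q, hq'⟩ := p.symm.exists_br w'
        have hq := p.symm.br_inv hq'
        have h := hgen (hT v) hq'.1 hq'.2.1
        rw [hlin, hy0, B4_zero_right, pw_zero, mul_one] at h
        have h2 : q⁻¹ * T v * q⁻¹⁻¹ = pw u (B4 (π q).2.2 v) * T v := by
          calc q⁻¹ * T v * q⁻¹⁻¹ = q⁻¹ * (T v * q * (T v)⁻¹) * T v := by group
            _ = _ := by rw [h]; group
        have h3 := congrArg π' h2
        rw [hq.2.2 _ (hT v).1, p.right.map_mul _ (p.pwu_mem _).2 _ (hT v).1, p.right.map_pw, zero_add,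
          ← zadd_v6] at h3
        rw [sg_move, (p.right_coord (hT v)).1] at h3
        simpa using congrArg Prod.fst h3
      exact (by decide : ∀ x : W4, (∀ w, B4 x w = 0) → x = 0) _ hperp
    have hyv : y = v := by
      by_contra hne
      obtain ⟨a, ha, b, hb, hfixv, x, hx⟩ := (by decide : ∀ v y : W4, q4 v = 0 → v ≠ 0 → y ≠ 0 → y ≠ v →
        ∃ a, q4 a = 1 ∧ ∃ b, q4 b = 1 ∧ r4 a (r4 b v) = v ∧ ∃ x, B4 (r4 a (r4 b x)) y ≠ B4 x y)
        v y hv hv0 hy0 hne
      refine hx ?_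
      rw [← hlin, ← hlin]
      conv_lhs => rw [← hfixv]
      exact hinv ha hb v x
    intro x; rw [hlin, hyv]
  have hall : ∀ w x, lam w x = B4 x w := by
    intro w x
    obtain ⟨v, v', hv, hv', rfl⟩ := (by decide : ∀ w : W4, ∃ v v', q4 v = 0 ∧ q4 v' = 0 ∧ w = v + v') w
    rw [hadd_w, hsing v hv, hsing v' hv', B4_add_right]
  rw [hgen ht hq hqu, hall]

/-- The squares in `E u`. -/
theorem sq_rule {t : G} {w : W4} (ht : Br S s u π t w) : t * t = pw u (q4 w) := by
  classical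
  choose T hT using p.exists_br
  set f : W4 → ZMod 2 := fun w => q6 (π' (T w)) with hfdef
  have hgen : ∀ {t : G} {w : W4}, Br S s u π t w → t * t = pw u (f w) := by
    intro t w ht
    obtain ⟨d, rfl⟩ : ∃ d, t = T w * d := ⟨(T w)⁻¹ * t, by group⟩
    have hd := p.br_mul (p.br_inv (hT w)) ht
    rw [inv_mul_cancel_left, w4_add_self] at hd
    have hc := p.inter_comm (p.br_zero hd) hd.1 (hT w).2.1 (p.br_comm (hT w)).2
    rw [show T w * d * (T w * d) = T w * (d * T w) * d by group, ← hc.eq,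
      show T w * (T w * d) * d = T w * T w * (d * d) by group, p.inter_sq (p.br_zero hd) hd.1, mul_one]
    exact p.right.square _ (hT w).1
  have hfW : ∀ {t : G} {w : W4}, Br S s u π t w → f w = q4 (π' t).2.2 := by
    intro t w ht
    rw [← (p.right_coord ht).2]
    exact pw_inj p.right.ne_one ((hgen ht).symm.trans (p.right.square t ht.1))
  have hinv : ∀ {a b : W4}, q4 a = 1 → q4 b = 1 → ∀ w, f (r4 a (r4 b w)) = f w := by
    intro a b ha hb w
    obtain ⟨c, hc, hcu⟩ := p.left.lift_stab p.memE p.hu (rr_mem' ha hb) (rr_u0 ha hb)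
    refine pw_inj p.right.ne_one ?_
    rw [← hgen (p.br_conj (hT w) ha hb hc hcu),
      show c * T w * c⁻¹ * (c * T w * c⁻¹) = c * (T w * T w) * c⁻¹ by group, hgen (hT w)]
    exact conj_eq_iff_commute.2 (commute_pw hcu _)
  have hns : ∀ w, q4 w = 1 → f w = f w0 := fun w hw => by
    obtain ⟨a, ha, b, hb, e⟩ :=
      (by decide : ∀ w : W4, q4 w = 1 → ∃ a, q4 a = 1 ∧ ∃ b, q4 b = 1 ∧ r4 a (r4 b w) = w0) w hw
    rw [← hinv ha hb w, e]
  have hs : ∀ w, q4 w = 0 → w ≠ 0 → f w = f (1, 0, 0, 0) := fun w hw hw0 => by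
    obtain ⟨a, ha, b, hb, e⟩ := (by decide : ∀ w : W4, q4 w = 0 → w ≠ 0 →
      ∃ a, q4 a = 1 ∧ ∃ b, q4 b = 1 ∧ r4 a (r4 b w) = ((1, 0, 0, 0) : W4)) w hw hw0
    rw [← hinv ha hb w, e]
  have hw01 : f w0 = 1 := by
    refine zne fun h0 => ?_
    have h1 := p.br_mul (hT w0) (hT vd)
    have e1 : q4 (π' (T w0)).2.2 = 0 := (hfW (hT w0)).symm.trans h0
    have e2 : q4 (π' (T vd)).2.2 = 0 := (hfW (hT vd)).symm.trans ((hns vd (by decide)).trans h0)
    have e3 : q4 (π' (T w0 * T vd)).2.2 = 0 :=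
      (hfW h1).symm.trans ((hns _ (by decide)).trans h0)
    rw [p.right.map_mul _ (hT w0).1 _ (hT vd).1, Prod.snd_add, Prod.snd_add] at e3
    refine (by decide : ∀ x y : W4, q4 x = 0 → q4 y = 0 → q4 (x + y) = 0 → x = 0 ∨ y = 0 ∨ x + y = 0)
      _ _ e1 e2 e3 |>.elim (p.coord_ne (hT w0) (by decide)) fun h => h.elim (p.coord_ne (hT vd) (by decide))
        fun h => ?_
    refine p.coord_ne h1 (by decide) ?_
    rw [p.right.map_mul _ (hT w0).1 _ (hT vd).1, Prod.snd_add, Prod.snd_add, h]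
  have hs0 : f (1, 0, 0, 0) = 0 := by
    refine (zcases _).resolve_right fun h1 => ?_
    obtain ⟨T', g, hg, hT'⟩ := p.exists_br_coord
    obtain ⟨h, hx⟩ := hT' (1, 0, 0, 0)
    have e : f (g (1, 0, 0, 0)) = 0 := by rw [hfW h, hx]; rfl
    have hne : g (1, 0, 0, 0) ≠ 0 := by
      intro h0
      have hz : f 0 = 0 := by
        refine pw_inj p.right.ne_one ?_
        rw [← hgen (p.br_of_inter (S.E s).one_mem (S.E u).one_mem), mul_one, pw_zero]
      obtain ⟨x, hx0⟩ := hg.2 0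
      obtain ⟨h', hx'⟩ := hT' x
      rw [hx0] at h'
      rw [h0] at h
      have hd := p.br_zero h
      have := p.symm.perp_of_comm h.1 h.2.1
      have hd' : (π' (T' (1, 0, 0, 0))).2.2 = 0 := by
        obtain ⟨b, a, hba⟩ := p.inter hd h.1
        rw [hba, p.right.map_mul _ (p.pwu_mem b).2 _ (p.pws_mem a).2, p.right.map_pw, p.symm.map_pwu,
          zero_add]
      rw [hx] at hd'
      exact absurd hd' (by decide)
    rcases zcases (q4 (g (1, 0, 0, 0))) with h0 | h0
    · rw [hs _ h0 hne, h1] at e; exact one_ne_zero e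
    · rw [hns _ h0, hw01] at e; exact one_ne_zero e
  rw [hgen ht]
  congr 1
  rcases zcases (q4 w) with h | h
  · by_cases h0 : w = 0
    · subst h0
      refine pw_inj p.right.ne_one ?_
      rw [← hgen (p.br_of_inter (S.E s).one_mem (S.E u).one_mem), mul_one, h, pw_zero]
    · rw [h, hs w h h0, hs0]
  · rw [h, hns w h, hw01]

end Pair

end CfsgLib.SuzType
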