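import Cfsg.Agent.Lib.SuzType.Basic
import Cfsg.Agent.Lib.Extraspecial.OuterIso
import Cfsg.Agent.Lib.KSteps.GFit
import Cfsg.Agent.Lib.Components.GenFitting

/-!
# The data from the hypotheses on the centralizer
-/

set_option autoImplicit false
set_option linter.style.haveILetI false
set_option maxRecDepth 10000

namespace CfsgLib.SuzType

open CfsgLib.Classical.Quad
open scoped commutatorElement

universe u

variable {G : Type u} [Group G]

/-- Transport of coordinates by conjugation. -/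
theorem Model.transport {s : G} {E : Subgroup G} {π : G → V6} (M : Model s E π) (g : G) {E' : Subgroup G}
    (hE : ∀ y, y ∈ E' ↔ g⁻¹ * y * g ∈ E) :
    Model (g * s * g⁻¹) E' fun y => π (g⁻¹ * y * g) := by
  have hback : ∀ x : G, g⁻¹ * (g * x * g⁻¹) * g = x := fun x => by group
  have hm : ∀ a b : G, g⁻¹ * (a * b) * g = g⁻¹ * a * g * (g⁻¹ * b * g) := fun a b => by group
  have hi : ∀ a : G, g⁻¹ * a⁻¹ * g = (g⁻¹ * a * g)⁻¹ := fun a => by group
  have hconj : ∀ a b : G, g⁻¹ * (a * b * a⁻¹) * g = g⁻¹ * a * g * (g⁻¹ * b * g) * (g⁻¹ * a * g)⁻¹ :=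
    fun a b => by group
  have hinj : ∀ a b : G, g⁻¹ * a * g = g⁻¹ * b * g → a = b := fun a b h =>
    mul_left_cancel (mul_right_cancel h)
  have hcm : ∀ a b : G, Commute a b → Commute (g⁻¹ * a * g) (g⁻¹ * b * g) := fun a b h => by
    show g⁻¹ * a * g * (g⁻¹ * b * g) = g⁻¹ * b * g * (g⁻¹ * a * g)
    rw [← hm, ← hm, h.eq]
  have hcm' : ∀ a b : G, Commute a b → Commute (g * a * g⁻¹) (g * b * g⁻¹) := fun a b h => by
    show g * a * g⁻¹ * (g * b * g⁻¹) = g * b * g⁻¹ * (g * a * g⁻¹)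
    rw [show g * a * g⁻¹ * (g * b * g⁻¹) = g * (a * b) * g⁻¹ by group, h.eq]; group
  have hpw : ∀ c, g⁻¹ * pw (g * s * g⁻¹) c * g = pw s c := fun c => by
    rcases zcases c with rfl | rfl
    · rw [pw_zero, pw_zero, mul_one, inv_mul_cancel]
    · rw [pw_one, pw_one, hback]
  refine ⟨fun h => M.ne_one (conj_eq_one_iff.1 h), ?_, (hE _).2 (by rw [hback]; exact M.mem), ?_, ?_, ?_,
    ?_, ?_, ?_, ?_, ?_, ?_, ?_⟩
  · rw [show g * s * g⁻¹ * (g * s * g⁻¹) = g * (s * s) * g⁻¹ by group, M.sq_one]; group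
  · intro q hq
    have := hcm' _ _ (M.le_cent _ ((hE q).1 hq))
    rwa [show g * (g⁻¹ * q * g) * g⁻¹ = q by group] at this
  · intro p hp q hq
    rw [hm]; exact M.map_mul _ ((hE p).1 hp) _ ((hE q).1 hq)
  · intro q hq
    rw [M.ker _ ((hE q).1 hq)]
    refine or_congr ⟨fun h => hinj q 1 (by rw [h]; group), fun h => by rw [h]; group⟩
      ⟨fun h => hinj q _ (by rw [h, hback]), fun h => by rw [h, hback]⟩
  · intro v
    obtain ⟨q, hq, e⟩ := M.surj v
    exact ⟨g * q * g⁻¹, (hE _).2 (by rwa [hback]), by rw [hback, e]⟩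
  · intro q hq
    refine hinj _ _ ?_
    rw [hm, hpw, M.square _ ((hE q).1 hq)]
  · intro p hp q hq
    refine hinj _ _ ?_
    rw [hm, hm, hm, hpw, ← M.swap _ ((hE p).1 hp) _ ((hE q).1 hq)]
  · intro c hc q hq
    rw [hE, hm, hm, hi]
    refine M.normal _ ?_ _ ((hE q).1 hq)
    have := hcm _ _ hc
    rwa [hback] at this
  · intro c hc
    rw [hE]
    refine M.faith _ ⟨?_, fun q hq => ?_⟩
    · have := hcm _ _ hc.1
      rwa [hback] at this
    · have h := hc.2 (g * q * g⁻¹) ((hE _).2 (by rwa [hback]))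
      simp only [hconj c, hback] at h
      exact h
  · intro c hc
    have hc' : Commute (g⁻¹ * c * g) s := by
      have := hcm _ _ hc
      rwa [hback] at this
    obtain ⟨k, hk, ha⟩ := M.act _ hc'
    exact ⟨k, hk, hc, fun q hq => by simp only [hm, hi]; exact ha.2 _ ((hE q).1 hq)⟩
  · intro k hk
    obtain ⟨c, hc, ha⟩ := M.lift k hk
    refine ⟨g * c * g⁻¹, hcm' _ _ hc, fun q hq => ?_⟩
    show π (g⁻¹ * (g * c * g⁻¹ * q * (g * c * g⁻¹)⁻¹) * g) = k.1 (π (g⁻¹ * q * g))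
    rw [show g⁻¹ * (g * c * g⁻¹ * q * (g * c * g⁻¹)⁻¹) * g = c * (g⁻¹ * q * g) * c⁻¹ by group]
    exact ha _ ((hE q).1 hq)

/-- The model at `z` from the frozen hypotheses. -/
theorem exists_model [Finite G] (z : G) (hz : orderOf z = 2)
    (Q : Subgroup (Subgroup.centralizer ({z} : Set G))) [Q.Normal]
    (hF : Cfsg.generalizedFittingSubgroup (Subgroup.centralizer ({z} : Set G)) = Q)
    (hQ : Cfsg.IsExtraspecial 2 Q) (hcard : Nat.card Q = 2 ^ 7)
    (e : (Subgroup.centralizer ({z} : Set G)) ⧸ Q ≃*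
      Cfsg.Omega (ZMod 2) (Cfsg.quadFormMinus 2 (ZMod 2) 1 1)) :
    ∃ π, Model z (Q.map (Subgroup.centralizer ({z} : Set G)).subtype) π := by
  classical
  have hzC : z ∈ Subgroup.centralizer ({z} : Set G) := Subgroup.mem_centralizer_singleton_iff.2 rfl
  have hfaith : Subgroup.centralizer (Q : Set ↥(Subgroup.centralizer ({z} : Set G))) ≤ Q := by
    have h := CfsgLib.Components.centralizer_genFitting_le (G := ↥(Subgroup.centralizer ({z} : Set G)))
    rwa [hF] at h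
  have hzP : (⟨z, hzC⟩ : ↥(Subgroup.centralizer ({z} : Set G))) ∈ Q := hF ▸ CfsgLib.KSteps.center_le_gfit _
    (Subgroup.mem_center_iff.2 fun g => Subtype.ext (Subgroup.mem_centralizer_singleton_iff.1 g.2))
  have hz1 : z ≠ 1 := fun h => by rw [h, orderOf_one] at hz; omega
  set zQ : ↥Q := ⟨⟨z, hzC⟩, hzP⟩ with hzQdef
  have hzc : zQ ∈ Subgroup.center ↥Q := Subgroup.mem_center_iff.2 fun g =>
    Subtype.ext (Subtype.ext (Subgroup.mem_centralizer_singleton_iff.1 g.1.2))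
  have hzQ1 : zQ ≠ 1 := fun h => hz1 (congrArg (fun c : ↥Q => ((c.1 : ↥(Subgroup.centralizer ({z} : Set G))) : G)) h)
  have hcen : ∀ p : ↥Q, p ∈ Subgroup.center ↥Q → p = 1 ∨ p = zQ := fun p hp => by
    by_cases hp1 : p = 1
    · exact Or.inl hp1
    · exact Or.inr (CfsgLib.Extraspecial.eq_of_centre_card hQ.2 hp hzc (by simp [hp1, hzQ1]))
  obtain ⟨C⟩ := CfsgLib.Extraspecial.exists_coords hQ 3 (by rw [hcard])
  let Φ : ↥(Subgroup.centralizer ({z} : Set G)) →* C.Iso := C.autHom.comp MulAut.conjNormal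
  have hker : ∀ c, Φ c = 1 ↔ c ∈ Q := by
    intro c
    show C.autHom (MulAut.conjNormal c) = 1 ↔ _
    rw [← MonoidHom.mem_ker, C.autHom_ker]
    constructor
    · rintro ⟨q, hq⟩
      have hmem : (q : ↥(Subgroup.centralizer ({z} : Set G)))⁻¹ * c ∈ Q := hfaith
        (Subgroup.mem_centralizer_iff.2 fun x hx => by
          have h := congrArg Subtype.val (DFunLike.congr_fun hq ⟨x, hx⟩)
          simp only [MulAut.conj_apply, MulAut.conjNormal_apply, Subgroup.coe_mul, InvMemClass.coe_inv] at h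
          calc x * ((q : ↥(Subgroup.centralizer ({z} : Set G)))⁻¹ * c)
              = (q : ↥(Subgroup.centralizer ({z} : Set G)))⁻¹ * ((q : ↥(Subgroup.centralizer ({z} : Set G))) * x *
                  (q : ↥(Subgroup.centralizer ({z} : Set G)))⁻¹) * c := by group
            _ = (q : ↥(Subgroup.centralizer ({z} : Set G)))⁻¹ * (c * x * c⁻¹) * c := by rw [h]
            _ = _ := by group)
      have := Q.mul_mem q.2 hmem
      rwa [mul_inv_cancel_left] at this
    · intro hc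
      exact ⟨⟨c, hc⟩, MulEquiv.ext fun x => Subtype.ext (by simp [MulAut.conjNormal_apply])⟩
  have hkerQ : Φ.ker = Q := by ext c; rw [MonoidHom.mem_ker]; exact hker c
  have hrange : Nat.card Φ.range = 25920 := by
    rw [← Subgroup.index_ker, hkerQ, Subgroup.index_eq_card, Nat.card_congr e.toEquiv, card_omega6]
  obtain ⟨w, hw⟩ := CfsgLib.F2Quad.exists_eq_qw 3 C.form_qf
  have h1 : Cfsg.quadFormPlus 3 (ZMod 2) w = 1 := by
    refine (zcases _).resolve_left fun h0 => ?_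
    obtain ⟨g, hg⟩ := (hw ▸ CfsgLib.F2Quad.qw_isPlus 3 h0 : CfsgLib.F2Quad.IsPlus 3 C.form)
    obtain ⟨eI⟩ := C.iso_equiv_isometryGroup _ g hg
    have hd := Subgroup.card_subgroup_dvd_card Φ.range
    rw [hrange, Nat.card_congr eI.toEquiv, CfsgLib.Classical.SmallIso.card_isometryGroup_plus 2,
      Nat.card_zmod] at hd
    norm_num [Finset.prod_range_succ] at hd
  obtain ⟨g, hg⟩ := (hw ▸ CfsgLib.F2Quad.qw_isMinus 3 (by norm_num) h1 : CfsgLib.F2Quad.IsMinus 3 C.form)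
  let L : CfsgLib.F2Quad.Vec 3 ≃ₗ[ZMod 2] V6 := g.trans coord6
  have hL : ∀ v, C.form v = q6 (L v) := fun v => by
    show _ = q6 (coord6 (g v))
    rw [← Q6_apply, coord6_spec]; exact hg v
  have hpol : ∀ a b, CfsgLib.F2Quad.pol 3 a b = B6 (L a) (L b) := fun a b => by
    rw [C.polar_form, hL, hL, hL, map_add, q6_add]; ring
  have hIsoQ : ∀ (k : C.Iso) (v : V6), Q6 ((L.symm.trans (k.1.trans L)) v) = Q6 v := fun k v => by
    rw [Q6_apply, Q6_apply, LinearEquiv.trans_apply, LinearEquiv.trans_apply, ← hL, k.2 (L.symm v), hL,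
      LinearEquiv.apply_symm_apply]
  let Ψ : C.Iso →* Orth Q6 := MonoidHom.mk' (fun k => ⟨L.symm.trans (k.1.trans L), hIsoQ k⟩) fun a b =>
    orth_ext fun v => by
      show L (a.1 (b.1 (L.symm v))) = L (a.1 (L.symm (L (b.1 (L.symm v)))))
      rw [LinearEquiv.symm_apply_apply]
  have hΨ : Function.Injective Ψ := by
    intro a b h
    refine Subtype.ext (LinearEquiv.ext fun v => ?_)
    have := congrArg (fun k : Orth Q6 => k.1 (L v)) h
    simpa [Ψ] using this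
  haveI : Finite (Orth Q6) := Nat.finite_of_card_ne_zero (by rw [card_orth6]; norm_num)
  have hM : (Ψ.comp Φ).range = Ev := by
    have hc : Nat.card (Ψ.comp Φ).range = 25920 := by
      rw [← Subgroup.index_ker, show (Ψ.comp Φ).ker = Φ.ker from by ext c; simp [MonoidHom.mem_ker, map_eq_one_iff Ψ hΨ], hkerQ, Subgroup.index_eq_card,
        Nat.card_congr e.toEquiv, card_omega6]
    have hi : (Ψ.comp Φ).range.index = 2 := by
      have := Subgroup.card_mul_index (Ψ.comp Φ).range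
      rw [hc, card_orth6] at this
      omega
    haveI := Subgroup.normal_of_index_eq_two hi
    have hle : Ev ≤ (Ψ.comp Φ).range := by
      show commutator _ ≤ _
      haveI : Fact (Nat.Prime 2) := ⟨Nat.prime_two⟩
      haveI : IsCyclic (Orth Q6 ⧸ (Ψ.comp Φ).range) := isCyclic_of_prime_card (p := 2) hi
      exact Subgroup.Normal.quotient_commutative_iff_commutator_le.1
        ⟨⟨fun a b => (IsCyclic.commGroup (α := Orth Q6 ⧸ (Ψ.comp Φ).range)).mul_comm a b⟩⟩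
    refine (Subgroup.eq_of_le_of_card_ge hle ?_).symm
    have := Subgroup.card_mul_index Ev
    rw [index_Ev, card_orth6] at this
    omega
  have hinj := (Subgroup.centralizer ({z} : Set G)).subtype_injective
  let π : G → V6 := fun x => if h : ∃ q : ↥Q, ((q : ↥(Subgroup.centralizer ({z} : Set G))) : G) = x then L (C.proj h.choose) else 0
  have hπ : ∀ q : ↥Q, π ((q : ↥(Subgroup.centralizer ({z} : Set G))) : G) = L (C.proj q) := fun q => by
    have h : ∃ q' : ↥Q, ((q' : ↥(Subgroup.centralizer ({z} : Set G))) : G) = ((q : ↥(Subgroup.centralizer ({z} : Set G))) : G) :=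
      ⟨q, rfl⟩
    simp only [π, dif_pos h]
    rw [show h.choose = q from Subtype.ext (Subtype.ext h.choose_spec)]
  have hact : ∀ (c : ↥(Subgroup.centralizer ({z} : Set G))) (q : ↥Q),
      π ((c : G) * ((q : ↥(Subgroup.centralizer ({z} : Set G))) : G) * (c : G)⁻¹) = (Ψ (Φ c)).1 (L (C.proj q)) := by
    intro c q
    rw [show (c : G) * ((q : ↥(Subgroup.centralizer ({z} : Set G))) : G) * (c : G)⁻¹ =
      (((MulAut.conjNormal c q : ↥Q) : ↥(Subgroup.centralizer ({z} : Set G))) : G) by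
        simp [MulAut.conjNormal_apply], hπ]
    show _ = L ((Φ c).1 (L.symm (L (C.proj q))))
    rw [LinearEquiv.symm_apply_apply]
    exact congrArg L (C.autHom_apply (MulAut.conjNormal c) q).symm
  have hcast : ∀ {a b : ↥Q}, ((a : ↥(Subgroup.centralizer ({z} : Set G))) : G) = ((b : ↥(Subgroup.centralizer ({z} : Set G))) : G) ↔ a = b :=
    ⟨fun h => Subtype.ext (Subtype.ext h), fun h => by rw [h]⟩
  have hpwz : ∀ (a : ↥Q) (c : ZMod 2), a ∈ Subgroup.center ↥Q → (a = 1 ↔ c = 0) →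
      ((a : ↥(Subgroup.centralizer ({z} : Set G))) : G) = pw z c := by
    intro a c ha hiff
    rcases zcases c with rfl | rfl
    · rw [pw_zero, hiff.2 rfl]; rfl
    · rw [pw_one, (hcen a ha).resolve_left fun h => one_ne_zero (hiff.1 h)]
  refine ⟨π, hz1, CfsgLib.Invol.mul_self_eq_one hz, ⟨_, hzP, rfl⟩, ?_, ?_, ?_, ?_, ?_, ?_, ?_, ?_, ?_, ?_⟩
  · rintro _ ⟨q, -, rfl⟩
    exact Subgroup.mem_centralizer_singleton_iff.1 q.2
  · rintro _ ⟨p, hp, rfl⟩ _ ⟨q, hq, rfl⟩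
    show π (((⟨p, hp⟩ * ⟨q, hq⟩ : ↥Q) : ↥(Subgroup.centralizer ({z} : Set G))) : G) = π _ + π _
    rw [hπ, C.proj_mul, map_add]
    exact congrArg₂ (· + ·) (hπ ⟨p, hp⟩).symm (hπ ⟨q, hq⟩).symm
  · rintro _ ⟨q, hq, rfl⟩
    rw [show π ((Subgroup.centralizer ({z} : Set G)).subtype q) = _ from hπ ⟨q, hq⟩, LinearEquiv.map_eq_zero_iff,
      C.proj_eq_zero]
    constructor
    · intro h
      rcases hcen _ h with h | h
      · exact Or.inl (hcast.2 h)
      · exact Or.inr (hcast.2 h)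
    · rintro (h | h)
      · rw [(hcast (a := (⟨q, hq⟩ : ↥Q)) (b := 1)).1 h]; exact one_mem _
      · rw [(hcast (a := (⟨q, hq⟩ : ↥Q)) (b := zQ)).1 h]; exact hzc
  · intro v
    obtain ⟨q, hq⟩ := C.proj_surj (L.symm v)
    exact ⟨_, ⟨q, q.2, rfl⟩, by
      rw [show π ((Subgroup.centralizer ({z} : Set G)).subtype q) = _ from hπ q, hq, LinearEquiv.apply_symm_apply]⟩
  · rintro _ ⟨q, hq, rfl⟩
    rw [show π ((Subgroup.centralizer ({z} : Set G)).subtype q) = _ from hπ ⟨q, hq⟩, ← hL]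
    exact hpwz (⟨q, hq⟩ * ⟨q, hq⟩) _ (C.sq_mem _) (C.sq_eq_one _)
  · rintro _ ⟨p, hp, rfl⟩ _ ⟨q, hq, rfl⟩
    rw [show π ((Subgroup.centralizer ({z} : Set G)).subtype p) = _ from hπ ⟨p, hp⟩,
      show π ((Subgroup.centralizer ({z} : Set G)).subtype q) = _ from hπ ⟨q, hq⟩, ← hpol,
      ← hpwz ⁅(⟨p, hp⟩ : ↥Q), ⟨q, hq⟩⁆ _ (C.comm_mem _ _) (C.comm_eq_one _ _)]
    have h2 : (⟨p, hp⟩ : ↥Q) * ⟨q, hq⟩ = ⟨q, hq⟩ * ⟨p, hp⟩ * ⁅(⟨p, hp⟩ : ↥Q), ⟨q, hq⟩⁆ := by
      rw [Subgroup.mem_center_iff.1 (C.comm_mem (⟨p, hp⟩ : ↥Q) ⟨q, hq⟩) (⟨q, hq⟩ * ⟨p, hp⟩), commutatorElement_def]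
      group
    exact (hcast (a := (⟨p, hp⟩ : ↥Q) * ⟨q, hq⟩)).2 h2
  · rintro c hc _ ⟨q, hq, rfl⟩
    exact ⟨⟨c, Subgroup.mem_centralizer_singleton_iff.2 hc⟩ * q * ⟨c, Subgroup.mem_centralizer_singleton_iff.2 hc⟩⁻¹,
      Subgroup.Normal.conj_mem inferInstance q hq _, rfl⟩
  · rintro c ⟨hc, hfix⟩
    refine ⟨⟨c, Subgroup.mem_centralizer_singleton_iff.2 hc⟩, (hker _).1 (hΨ ?_), rfl⟩
    rw [map_one]
    refine orth_ext fun v => ?_
    obtain ⟨q, hq⟩ := C.proj_surj (L.symm v)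
    have h := hfix _ ⟨q, q.2, rfl⟩
    have h' := hact ⟨c, Subgroup.mem_centralizer_singleton_iff.2 hc⟩ q
    rw [hq, LinearEquiv.apply_symm_apply] at h'
    rw [← h']
    refine h.trans ?_
    rw [show π ((Subgroup.centralizer ({z} : Set G)).subtype q) = _ from hπ q, hq, LinearEquiv.apply_symm_apply]
  · intro c hc
    refine ⟨Ψ (Φ ⟨c, Subgroup.mem_centralizer_singleton_iff.2 hc⟩), hM ▸ ⟨_, rfl⟩, hc, ?_⟩
    rintro _ ⟨q, hq, rfl⟩
    rw [show π ((Subgroup.centralizer ({z} : Set G)).subtype q) = _ from hπ ⟨q, hq⟩]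
    exact hact ⟨c, Subgroup.mem_centralizer_singleton_iff.2 hc⟩ ⟨q, hq⟩
  · intro k hk
    obtain ⟨c, rfl⟩ := hM.ge hk
    refine ⟨c, Subgroup.mem_centralizer_singleton_iff.1 c.2, ?_⟩
    rintro _ ⟨q, hq, rfl⟩
    rw [show π ((Subgroup.centralizer ({z} : Set G)).subtype q) = _ from hπ ⟨q, hq⟩]
    exact hact c ⟨q, hq⟩

/-- The system on the class of `z`. -/
theorem exists_sys {z : G} {Q : Subgroup G} {π : G → V6} (M : Model z Q π)
    (hnwc : ∃ u ∈ Q, u ≠ z ∧ IsConj z u) : ∃ S : Sys G, S.K z ∧ S.E z = Q := by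
  let E : G → Subgroup G := fun x =>
    { carrier := {y | ∀ g, g * z * g⁻¹ = x → g⁻¹ * y * g ∈ Q}
      one_mem' := fun g _ => by simp [Q.one_mem]
      mul_mem' := fun {a b} ha hb g hg => by
        have := Q.mul_mem (ha g hg) (hb g hg)
        rwa [show g⁻¹ * a * g * (g⁻¹ * b * g) = g⁻¹ * (a * b) * g by group] at this
      inv_mem' := fun {a} ha g hg => by
        have := Q.inv_mem (ha g hg)
        rwa [show (g⁻¹ * a * g)⁻¹ = g⁻¹ * a⁻¹ * g by group] at this }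
  have hE : ∀ g y, y ∈ E (g * z * g⁻¹) ↔ g⁻¹ * y * g ∈ Q := by
    intro g y
    refine ⟨fun h => h g rfl, fun h g' hg' => ?_⟩
    have hc : Commute (g'⁻¹ * g) z := by
      show g'⁻¹ * g * z = z * (g'⁻¹ * g)
      calc g'⁻¹ * g * z = g'⁻¹ * (g * z * g⁻¹) * g := by group
        _ = g'⁻¹ * (g' * z * g'⁻¹) * g := by rw [hg']
        _ = z * (g'⁻¹ * g) := by group
    have := M.normal _ hc _ h
    rwa [show g'⁻¹ * g * (g⁻¹ * y * g) * (g'⁻¹ * g)⁻¹ = g'⁻¹ * y * g' by group] at this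
  refine ⟨
    { K := fun x => IsConj z x
      E := E
      K_conj := fun g s hs => hs.trans (isConj_iff.2 ⟨g, rfl⟩)
      K_isConj := fun s t hs ht => hs.symm.trans ht
      E_conj := fun g s hs x => by
        obtain ⟨k, rfl⟩ := isConj_iff.1 hs
        rw [show g * (k * z * k⁻¹) * g⁻¹ = (g * k) * z * (g * k)⁻¹ by group, hE, hE]
        rw [show (g * k)⁻¹ * (g * x * g⁻¹) * (g * k) = k⁻¹ * x * k by group]
      model := fun s hs => by
        obtain ⟨k, rfl⟩ := isConj_iff.1 hs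
        exact ⟨_, M.transport k (hE k)⟩
      nwc := fun s hs => by
        obtain ⟨k, rfl⟩ := isConj_iff.1 hs
        obtain ⟨u, hu, hne, hc⟩ := hnwc
        refine ⟨k * u * k⁻¹, (hE k _).2 ?_, fun h => hne (mul_left_cancel (mul_right_cancel h)),
          hc.trans (isConj_iff.2 ⟨k, rfl⟩)⟩
        rwa [show k⁻¹ * (k * u * k⁻¹) * k = u by group] }, IsConj.refl z, ?_⟩
  ext y
  have := hE 1 y
  rwa [one_mul, inv_one, mul_one, one_mul, mul_one] at this

end CfsgLib.SuzType
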