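import Cfsg.Agent.Lib.SuzType.Pair

/-!
# Two classes of involutions
-/

set_option autoImplicit false
set_option linter.style.haveILetI false
set_option synthInstance.maxSize 20000
set_option maxRecDepth 10000

namespace CfsgLib.SuzType

open CfsgLib.Classical.Quad

universe u

variable {G : Type u} [Group G]

theorem commute_back {c x s : G} (h : Commute (c * x * c⁻¹) s) (hc : Commute c s) : Commute x s := by
  have := (hc.inv_left.mul_left h).mul_left hc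
  rwa [show c⁻¹ * (c * x * c⁻¹) * c = x by group] at this

theorem sq_conj {c x : G} (h : x * x = 1) : c * x * c⁻¹ * (c * x * c⁻¹) = 1 := by
  rw [show c * x * c⁻¹ * (c * x * c⁻¹) = c * (x * x) * c⁻¹ by group, h]; group

namespace Pair

variable {S : Sys G} {s u : G} {π π' : G → V6} (p : Pair S s u π π')
include p

theorem acts_tq {t q : G} {w : W4} (ht : Br S s u π t w) (hq : q ∈ S.E s) :
    Acts s (S.E s) π (t * q) (sg w) := by
  simpa using p.left.acts_mul ht.2 (p.left.acts_mem hq)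

/-- The square of a product. -/
theorem sq_tq {t q : G} {w : W4} (ht : Br S s u π t w) (hq : q ∈ S.E s) (hqu : Commute q u)
    (hB : B4 (π q).2.2 w = q4 w) : t * q * (t * q) = pw s (q4 w + q6 (π q)) := by
  have h := p.comm_rule ht hq hqu
  rw [hB] at h
  have hc : Commute (pw u (q4 w)) (pw s (q4 w)) :=
    commute_pw (commute_pw p.comm _).symm _
  calc t * q * (t * q) = t * q * t⁻¹ * (t * t) * q := by group
    _ = q * (pw u (q4 w) * pw s (q4 w)) * pw u (q4 w) * q := by rw [h, p.sq_rule ht]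
    _ = q * pw s (q4 w) * q := by
      rw [hc.eq, ← mul_assoc q (pw s (q4 w)), mul_assoc (q * pw s (q4 w)) (pw u (q4 w)), ← pw_add p.right.sq_one,
        CharTwo.add_self_eq_zero, pw_zero, mul_one]
    _ = pw s (q4 w) * (q * q) := by rw [(commute_pw (p.left.le_cent q hq) _).eq, mul_assoc]
    _ = _ := by rw [p.left.square q hq, ← pw_add p.left.sq_one]

/-- When is a product an involution. -/
theorem criterion {t q : G} {w : W4} (ht : Br S s u π t w) (hw : w ≠ 0) (hq : q ∈ S.E s)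
    (h : t * q * (t * q) = 1) :
    (π q).2.1 = 0 ∧ B4 (π q).2.2 w = q4 w ∧ q6 (π q) = q4 w := by
  have h1 := p.left.normal t ht.2.1 q hq
  have h2 : t * q * t⁻¹ * pw u (q4 w) * q = 1 := by
    rw [← p.sq_rule ht, ← h]; group
  have h3 := congrArg π h2
  rw [p.left.map_mul _ ((S.E s).mul_mem h1 (p.pwu_mem _).1) _ hq, p.left.map_mul _ h1 _ (p.pwu_mem _).1,
    p.map_pwu, ht.2.2 q hq, p.left.map_one, add_right_comm, sg_move] at h3
  obtain ⟨hb, hB⟩ : (π q).2.1 = 0 ∧ B4 (π q).2.2 w = q4 w := by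
    generalize π q = v at h3
    obtain ⟨a, b, x⟩ := v
    simp only [Prod.mk_add_mk, Prod.ext_iff, Prod.fst_zero, Prod.snd_zero, add_zero] at h3
    have hb : b = 0 := (zcases b).resolve_right fun e => hw (by
      subst e
      ext <;> simp_all)
    subst hb
    refine ⟨rfl, zadd.1 ?_⟩
    simpa using h3.1
  refine ⟨hb, hB, ?_⟩
  have hqu : Commute q u := p.comm_of_perp hq (by
    rw [show π q = ((π q).1, (π q).2.1, (π q).2.2) from rfl, hb]
    simp [B6, u0])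
  have h4 := p.sq_tq ht hq hqu hB
  rw [h, eq_comm, pw_eq_one p.left.ne_one, zadd] at h4
  exact h4.symm

/-- Shifting the second factor. -/
theorem shift {t q y : G} {w : W4} (ht : Br S s u π t w) (hq : q ∈ S.E s) (hy : y ∈ S.E s) :
    ∃ r ∈ S.E s, y * (t * q) * y⁻¹ = t * r ∧
      π r = (B4 (π y).2.2 w + q4 w * (π y).2.1, 0, (π y).2.1 • w) + π q := by
  have h1 := p.left.normal t⁻¹ ht.2.1.inv_left y hy
  have h2 : t⁻¹ * y * t⁻¹⁻¹ * y⁻¹ ∈ S.E s := (S.E s).mul_mem h1 ((S.E s).inv_mem hy)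
  have h3 : y * q * y⁻¹ ∈ S.E s := (S.E s).mul_mem ((S.E s).mul_mem hy hq) ((S.E s).inv_mem hy)
  refine ⟨_, (S.E s).mul_mem h2 h3, by group, ?_⟩
  rw [p.left.map_mul _ h2 _ h3, p.left.map_mul _ h1 _ ((S.E s).inv_mem hy), p.left.map_inv hy,
    (p.br_inv ht).2.2 y hy, p.left.map_conj hy hq, sg_move]

/-- Replacing the first factor. -/
theorem refactor {t t' q : G} {w : W4} (ht : Br S s u π t w) (ht' : Br S s u π t' w) (hq : q ∈ S.E s) :
    ∃ r ∈ S.E s, t * q = t' * r ∧ (π r).2.2 = (π q).2.2 := by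
  have hd := p.br_mul (p.br_inv ht') ht
  rw [w4_add_self] at hd
  have hd' := p.br_zero hd
  obtain ⟨b, a, hba⟩ := p.inter hd' hd.1
  refine ⟨t'⁻¹ * t * q, (S.E s).mul_mem hd' hq, by group, ?_⟩
  rw [p.left.map_mul _ hd' _ hq, hba, p.map_dd]
  simp

/-- The representative of the second class. -/
def Rep (t0 : G) : Prop :=
  ∃ T0 Q0, Br S s u π T0 w0 ∧ Q0 ∈ S.E s ∧ π Q0 = emb vd ∧ t0 = T0 * Q0

omit p in
theorem rep_def {t0 : G} : Rep (S := S) (s := s) (u := u) (π := π) t0 ↔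
    ∃ T0 Q0, Br S s u π T0 w0 ∧ Q0 ∈ S.E s ∧ π Q0 = emb vd ∧ t0 = T0 * Q0 := Iff.rfl

theorem exists_rep : ∃ t0, Rep (S := S) (s := s) (u := u) (π := π) t0 := by
  obtain ⟨T0, hT0⟩ := p.exists_br w0
  obtain ⟨Q0, hQ0, e⟩ := p.left.surj (emb vd)
  exact ⟨_, T0, Q0, hT0, hQ0, e, rfl⟩

theorem rep_facts {t0 : G} (h : Rep (S := S) (s := s) (u := u) (π := π) t0) :
    t0 * t0 = 1 ∧ t0 ∉ S.E s ∧ Commute t0 s ∧ Acts s (S.E s) π t0 (sg w0) := by
  obtain ⟨T0, Q0, hT0, hQ0, hQπ, rfl⟩ := h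
  have hQu := p.comm_of_perp hQ0 (by rw [hQπ]; rfl)
  have hA := p.acts_tq hT0 hQ0
  refine ⟨?_, fun hm => ?_, hA.1, hA⟩
  · rw [p.sq_tq hT0 hQ0 hQu (by rw [hQπ]; rfl), hQπ, show q4 w0 + q6 (emb vd) = 0 by decide, pw_zero]
  · have := congrArg (fun g : Orth Q6 => (g.1 v0).2.2) (p.left.acts_unique hA (p.left.acts_mem hm))
    simp only [sg_v0, one_apply] at this
    exact absurd this (by decide)

theorem move {t q : G} {w a b : W4} (ht : Br S s u π t w) (hq : q ∈ S.E s) (ha : q4 a = 1) (hb : q4 b = 1)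
    {t' : G} (ht' : Br S s u π t' (r4 a (r4 b w))) :
    ∃ c r, Commute c s ∧ r ∈ S.E s ∧ c * (t * q) * c⁻¹ = t' * r ∧
      (π r).2.2 = r4 a (r4 b (π q).2.2) := by
  obtain ⟨c, hc, hcu⟩ := p.left.lift_stab p.memE p.hu (rr_mem' ha hb) (rr_u0 ha hb)
  obtain ⟨r, hr, e, hW⟩ := p.refactor (p.br_conj ht ha hb hc hcu) ht' (p.left.normal c hc.1 q hq)
  refine ⟨c, r, hc.1, hr, ?_, ?_⟩
  · rw [← e]; group
  · rw [hW, hc.2 q hq, show π q = ((π q).1, (π q).2.1, (π q).2.2) from rfl, rr_triple ha hb]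

/-- The classification of the involutions of the centralizer. -/
theorem classify {t0 : G} (h0 : Rep (S := S) (s := s) (u := u) (π := π) t0) {x : G} (hxs : Commute x s)
    (hxx : x * x = 1) :
    x ∈ S.E s ∨ (∃ c, Commute c s ∧ c * x * c⁻¹ ∈ S.E u) ∨ ∃ c, Commute c s ∧ c * x * c⁻¹ = t0 := by
  by_cases hx : x ∈ S.E s
  · exact Or.inl hx
  right
  obtain ⟨τ, hτE, hτ⟩ := p.left.act x hxs
  have hτ2 : τ * τ = 1 := by
    have h := p.left.acts_mul hτ hτ
    rw [hxx] at h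
    exact p.left.acts_unique h (p.left.acts_mem (S.E s).one_mem)
  obtain ⟨σ, hσ, hσ0, hσf⟩ := exists_fixed hτ2
  obtain ⟨k, hk, hkσ⟩ := ev_transitive' hσ hσ0 (show q6 u0 = 0 from rfl) (show u0 ≠ 0 by decide)
  obtain ⟨c₁, hc₁⟩ := p.left.lift k hk
  have hA₁ := p.left.acts_mul (p.left.acts_mul hc₁ hτ) (p.left.acts_inv hc₁)
  have hE₁ : k * τ * k⁻¹ ∈ Ev := mul_mem (mul_mem hk hτE) (inv_mem hk)
  obtain ⟨σ', hσ', hσ'0, hIn⟩ := exists_root hE₁ p.sg_mem (sq_conj hτ2)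
    (by rw [mul_apply, mul_apply, ← hkσ, inv_apply_self, hσf])
  obtain ⟨k', hk', hkσ'⟩ := ev_transitive' hσ' hσ'0 (show q6 u0 = 0 from rfl) (show u0 ≠ 0 by decide)
  obtain ⟨c₂, hc₂⟩ := p.left.lift k' hk'
  have hA₂ := p.left.acts_mul (p.left.acts_mul hc₂ hA₁) (p.left.acts_inv hc₂)
  have hIn' := hIn.conj k'
  rw [hkσ'] at hIn'
  rw [eq_sg hIn'.fix hIn'] at hA₂
  set w := ((k' * (k * τ * k⁻¹) * k'⁻¹).1 v0).2.2
  set c := c₂ * c₁ with hcdef
  have hcs : Commute c s := hc₂.1.mul_left hc₁.1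
  rw [show c₂ * (c₁ * x * c₁⁻¹) * c₂⁻¹ = c * x * c⁻¹ by rw [hcdef]; group] at hA₂
  set x₂ := c * x * c⁻¹ with hx₂
  have hw0 : w ≠ 0 := fun e => hx (by
    rw [e, sg_zero] at hA₂
    have := p.left.normal c⁻¹ hcs.inv_left x₂ (p.left.faith x₂ hA₂)
    rwa [inv_inv, hx₂, show c⁻¹ * (c * x * c⁻¹) * c = x by group] at this)
  obtain ⟨t, ht⟩ := p.exists_br w
  have hq : t⁻¹ * x₂ ∈ S.E s := p.left.faith _ (by
    have := p.left.acts_mul (p.br_inv ht).2 hA₂
    rwa [sg_sq] at this)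
  obtain ⟨q, hqdef⟩ : ∃ q, t⁻¹ * x₂ = q := ⟨_, rfl⟩
  rw [hqdef] at hq
  have hxt : x₂ = t * q := by rw [← hqdef]; group
  have hsq : t * q * (t * q) = 1 := hxt ▸ sq_conj hxx
  obtain ⟨hb, hB, hQ⟩ := p.criterion ht hw0 hq hsq
  have hqW : q4 (π q).2.2 = q4 w := by rw [← hQ]; simp [q6, hb]
  rcases zcases (q4 w) with hw | hw
  · -- a member of the class in the other subgroup
    left
    rw [hw] at hB hqW
    rcases (by decide : ∀ w v : W4, q4 w = 0 → w ≠ 0 → B4 v w = 0 → q4 v = 0 → v = 0 ∨ v = w) w _ hw hw0 hB hqW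
      with e | e
    · exact ⟨c, hcs, hx₂ ▸ hxt ▸ (S.E u).mul_mem ht.1 (p.mem_of_map hq hb e)⟩
    · obtain ⟨y, hy, hyπ⟩ := p.left.surj v0
      obtain ⟨r, hr, her, hrπ⟩ := p.shift ht hq hy
      refine ⟨y * c, (p.left.le_cent y hy).mul_left hcs, ?_⟩
      rw [show y * c * x * (y * c)⁻¹ = y * (c * x * c⁻¹) * y⁻¹ by group, ← hx₂, hxt, her]
      rw [hyπ] at hrπ
      refine (S.E u).mul_mem ht.1 (p.mem_of_map hr ?_ ?_) <;> rw [hrπ]
      · simp [v0, hb]
      · simp [v0, e, w4_add_self]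
  · -- the second class
    right
    obtain ⟨T0, Q0, hT0, hQ0, hQπ, rfl⟩ := h0
    rw [hw] at hB hqW
    obtain ⟨a, ha, b, hbq, hab⟩ :=
      (by decide : ∀ w : W4, q4 w = 1 → ∃ a, q4 a = 1 ∧ ∃ b, q4 b = 1 ∧ r4 a (r4 b w) = w0) w hw
    obtain ⟨c₃, q₃, hc₃, hq₃, he₃, hW₃⟩ := p.move (t' := T0) ht hq ha hbq (hab ▸ hT0)
    have hsq₃ : T0 * q₃ * (T0 * q₃) = 1 := he₃ ▸ sq_conj hsq
    obtain ⟨hb₃, hB₃, hQ₃⟩ := p.criterion hT0 (show w0 ≠ 0 by decide) hq₃ hsq₃
    have hq₃W : q4 (π q₃).2.2 = 1 := by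
      rw [show (1 : ZMod 2) = q4 w0 from rfl, ← hQ₃]; simp [q6, hb₃]
    obtain ⟨a', ha', b', hb', hfix', hW'⟩ := (by decide : ∀ v : W4, q4 v = 1 → B4 v w0 = q4 w0 →
      ∃ a, q4 a = 1 ∧ ∃ b, q4 b = 1 ∧ r4 a (r4 b w0) = w0 ∧
        (r4 a (r4 b v) = vd ∨ r4 a (r4 b v) = vd + w0)) _ hq₃W hB₃
    obtain ⟨c₄, q₄, hc₄, hq₄, he₄, hW₄⟩ := p.move (t' := T0) hT0 hq₃ ha' hb' (hfix'.symm ▸ hT0)
    rw [← hW₄] at hW'
    have hsq₄ : T0 * q₄ * (T0 * q₄) = 1 := he₄ ▸ sq_conj hsq₃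
    obtain ⟨hb₄, -, -⟩ := p.criterion hT0 (show w0 ≠ 0 by decide) hq₄ hsq₄
    obtain ⟨y0, hy0⟩ := (by decide : ∀ v : V6, v.2.1 = 0 → (v.2.2 = vd ∨ v.2.2 = vd + w0) →
      ∃ y : V6, (B4 y.2.2 w0 + q4 w0 * y.2.1, 0, y.2.1 • w0) + v = emb vd) _ hb₄ hW'
    obtain ⟨y, hy, rfl⟩ := p.left.surj y0
    obtain ⟨r, hr, her, hrπ⟩ := p.shift hT0 hq₄ hy
    rw [hy0] at hrπ
    set c' := y * (c₄ * (c₃ * c)) with hc'
    have hc's : Commute c' s := (p.left.le_cent y hy).mul_left (hc₄.mul_left (hc₃.mul_left hcs))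
    have hreach : c' * x * c'⁻¹ = T0 * r := by
      rw [← her, ← he₄, ← he₃, ← hxt, hx₂, hc']; group
    rcases p.left.eq_of_map hr hQ0 (hrπ.trans hQπ.symm) with e | e
    · exact ⟨c', hc's, by rw [hreach, e]⟩
    · obtain ⟨z, hz, hzu, hzπ⟩ := p.exists_q w0
      have hzT : Commute T0 z := by
        have := p.comm_rule hT0 hz hzu
        rw [hzπ, show B4 (emb w0).2.2 w0 = 0 from rfl, pw_zero, pw_zero, mul_one, mul_one] at this
        exact conj_eq_iff_commute.1 this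
      have hzQ : z * Q0 * z⁻¹ = Q0 * s := by
        rw [p.left.conj_eq hz hQ0, hzπ, hQπ, show B6 (emb w0) (emb vd) = 1 from rfl, pw_one]
      refine ⟨z * c', (p.left.le_cent z hz).mul_left hc's, ?_⟩
      rw [show z * c' * x * (z * c')⁻¹ = z * (c' * x * c'⁻¹) * z⁻¹ by group, hreach, e,
        show z * (T0 * (Q0 * s)) * z⁻¹ = z * T0 * z⁻¹ * (z * Q0 * z⁻¹) * (z * s * z⁻¹) by group,
        conj_eq_iff_commute.2 hzT.symm, hzQ, conj_eq_iff_commute.2 (p.left.le_cent z hz), mul_assoc T0,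
        mul_assoc Q0, p.left.sq_one, mul_one]

theorem cent_iff {t0 : G} (h0 : Rep (S := S) (s := s) (u := u) (π := π) t0) {q : G} (hq : q ∈ S.E s) :
    Commute q t0 ↔ (π q).2.1 = 0 ∧ (π q).2.2.2.2.1 = 0 ∧ (π q).2.2.2.2.2 = 0 := by
  obtain ⟨T0, Q0, hT0, hQ0, hQπ, rfl⟩ := h0
  have hA := p.acts_tq hT0 hQ0
  have key : (π q).2.1 = 0 → B4 (π q).2.2 w0 = 0 → Commute q T0 := fun hb hd => by
    have hqu : Commute q u := p.comm_of_perp hq (by simp [B6, u0, hb])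
    have := p.comm_rule hT0 hq hqu
    rw [hd, pw_zero, pw_zero, mul_one, mul_one] at this
    exact (conj_eq_iff_commute.1 this).symm
  have hcoord : (B6 (π q) (emb vd) = 0 ↔ (π q).2.2.2.2.1 = 0) ∧
      (B4 (π q).2.2 w0 = 0 ↔ (π q).2.2.2.2.2 = 0) := by
    generalize π q = v; revert v; decide
  constructor
  · intro hc
    have h := hA.2 q hq
    rw [conj_eq_iff_commute.2 hc.symm, eq_comm, ← zadd_v6, sg_move] at h
    obtain ⟨hb, hd⟩ : (π q).2.1 = 0 ∧ B4 (π q).2.2 w0 = 0 := by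
      generalize π q = v at h ⊢; revert v; decide
    refine ⟨hb, hcoord.1.1 ?_, hcoord.2.1 hd⟩
    rw [← hQπ]
    refine (p.left.commute_iff hq hQ0).1 ?_
    have := (key hb hd).inv_right.mul_right hc
    rwa [inv_mul_cancel_left] at this
  · rintro ⟨hb, hc, hd⟩
    exact (key hb (hcoord.2.2 hd)).mul_right ((p.left.commute_iff hq hQ0).2 (by rw [hQπ]; exact hcoord.1.2 hc))

theorem card_cent {t0 : G} (h0 : Rep (S := S) (s := s) (u := u) (π := π) t0) :
    Nat.card (S.E s ⊓ Subgroup.centralizer ({t0} : Set G) : Subgroup G) = 16 := by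
  choose L hL hLπ using p.left.surj
  let v : ZMod 2 × ZMod 2 × ZMod 2 → V6 := fun k => (k.1, 0, k.2.1, k.2.2, 0, 0)
  let φ : (ZMod 2 × ZMod 2 × ZMod 2) × ZMod 2 → ↥(S.E s ⊓ Subgroup.centralizer ({t0} : Set G)) := fun k =>
    ⟨L (v k.1) * pw s k.2, (S.E s).mul_mem (hL _) (p.left.pw_mem _),
      Subgroup.mem_centralizer_singleton_iff.2 ((p.cent_iff h0 ((S.E s).mul_mem (hL _) (p.left.pw_mem _))).2 (by
        rw [p.left.map_mul _ (hL _) _ (p.left.pw_mem _), p.left.map_pw, add_zero, hLπ]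
        exact ⟨rfl, rfl, rfl⟩)).eq⟩
  have hb : Function.Bijective φ := by
    constructor
    · rintro ⟨k, e⟩ ⟨k', e'⟩ hk
      have h := congrArg Subtype.val hk
      change L (v k) * pw s e = L (v k') * pw s e' at h
      have h1 := congrArg π h
      rw [p.left.map_mul _ (hL _) _ (p.left.pw_mem _), p.left.map_mul _ (hL _) _ (p.left.pw_mem _),
        p.left.map_pw, p.left.map_pw, hLπ, hLπ, add_zero, add_zero] at h1
      obtain rfl : k = k' := (by decide : ∀ k k' : ZMod 2 × ZMod 2 × ZMod 2,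
        ((k.1, 0, k.2.1, k.2.2, 0, 0) : V6) = (k'.1, 0, k'.2.1, k'.2.2, 0, 0) → k = k') k k' h1
      exact Prod.ext rfl (pw_inj p.left.ne_one (mul_left_cancel h))
    · rintro ⟨q, hq, hqc⟩
      obtain ⟨h1, h2, h3⟩ := (p.cent_iff h0 hq).1 (Subgroup.mem_centralizer_singleton_iff.1 hqc)
      have hv : π q = v ((π q).1, (π q).2.2.1, (π q).2.2.2.1) := by
        simp [v, Prod.ext_iff, h1, h2, h3]
      rcases p.left.eq_of_map hq (hL _) (hv.trans (hLπ _).symm) with e | e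
      · exact ⟨⟨_, 0⟩, Subtype.ext (by show _ * pw s 0 = q; rw [pw_zero, mul_one, ← e])⟩
      · exact ⟨⟨_, 1⟩, Subtype.ext (by show _ * pw s 1 = q; rw [pw_one, ← e])⟩
  rw [← Nat.card_eq_of_bijective φ hb]
  simp [Nat.card_prod]

/-- The representative is not in the class. -/
theorem rep_not_K [Finite G] {t0 : G} (h0 : Rep (S := S) (s := s) (u := u) (π := π) t0) : ¬ S.K t0 := by
  intro hK
  obtain ⟨ht2, htE, hts, htA⟩ := p.rep_facts h0
  have hts' : t0 ≠ s := fun e => htE (e ▸ p.left.mem)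
  have hsE : s ∉ S.E t0 := fun h => htE (S.mem_symm hK p.Ks h hts'.symm)
  obtain ⟨N', hN⟩ := S.model t0 hK
  have hD : ∀ d ∈ S.E s, d ∈ S.E t0 → d = 1 := by
    intro d hd hd'
    have hdt : Commute d t0 := hN.le_cent d hd'
    obtain ⟨hb, hc, he⟩ := (p.cent_iff h0 hd).1 hdt
    have hperp : ∀ v : V6, v.2.1 = 0 → v.2.2.2.2.1 = 0 → v.2.2.2.2.2 = 0 → B6 v (π d) = 0 := by
      intro v hv1 hv2 hv3
      obtain ⟨a, ha, rfl⟩ := p.left.surj v
      have hat : Commute a t0 := (p.cent_iff h0 ha).2 ⟨hv1, hv2, hv3⟩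
      have h1 := hN.normal a hat d hd'
      rw [p.left.conj_eq ha hd] at h1
      have h2 := (S.E t0).mul_mem ((S.E t0).inv_mem hd') h1
      rw [inv_mul_cancel_left] at h2
      rcases zcases (B6 (π a) (π d)) with e | e
      · exact e
      · rw [e, pw_one] at h2; exact absurd h2 hsE
    have hW : (π d).2.2 = 0 := by
      have e1 := hperp (emb (1, 0, 0, 0)) rfl rfl rfl
      have e2 := hperp (emb (0, 1, 0, 0)) rfl rfl rfl
      generalize π d = v at hb hc he e1 e2 ⊢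
      revert v
      decide
    have hdd := p.inter_sq hd (p.mem_of_map hd hb hW)
    rcases zcases (π d).1 with e | e
    · rcases (p.left.ker d hd).1 (by ext <;> simp [e, hb, hW]) with h | h
      · exact h
      · exact absurd (h ▸ hd') hsE
    · exfalso
      have hd0 : π d = u0 := by ext <;> simp [u0, e, hb, hW]
      obtain ⟨πd, pd⟩ := S.exists_pair p.Ks p.left hd hdd hd0
      have hdne : d ≠ t0 := fun h => htE (h ▸ hd)
      have htd := S.mem_symm hK pd.Ku hd' hdne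
      have := pd.sq_rule (t := t0) (w := w0) ⟨htd, htA⟩
      rw [ht2, show q4 w0 = 1 from rfl, pw_one] at this
      exact pd.right.ne_one this.symm
  obtain ⟨g, hg⟩ := isConj_iff.1 (S.K_isConj s t0 p.Ks hK)
  have hxs : Commute (g⁻¹ * s * g) s := by
    have h1 : g⁻¹ * t0 * g = s := by rw [← hg]; group
    show g⁻¹ * s * g * s = s * (g⁻¹ * s * g)
    calc g⁻¹ * s * g * s = g⁻¹ * s * g * (g⁻¹ * t0 * g) := by rw [h1]
      _ = g⁻¹ * (s * t0) * g := by group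
      _ = g⁻¹ * (t0 * s) * g := by rw [hts.eq]
      _ = g⁻¹ * t0 * g * (g⁻¹ * s * g) := by group
      _ = s * (g⁻¹ * s * g) := by rw [h1]
  have hxx : g⁻¹ * s * g * (g⁻¹ * s * g) = 1 := by
    simpa using sq_conj (c := g⁻¹) p.left.sq_one
  rcases p.classify h0 hxs hxx with hx | ⟨c, hc, hx⟩ | ⟨c, hc, hx⟩
  · refine hsE ?_
    have := S.mem_conj (g := g) p.Ks hx
    rwa [hg, show g * (g⁻¹ * s * g) * g⁻¹ = s by group] at this
  · have hu' : c⁻¹ * u * c ∈ S.E s := by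
      have := p.left.normal c⁻¹ hc.inv_left u p.memE
      rwa [inv_inv] at this
    have hK' : S.K (c⁻¹ * u * c) := by
      have := S.K_conj c⁻¹ u p.Ku
      rwa [inv_inv] at this
    have h2 := S.mem_conj (g := g) hK' (S.mem_conj_back p.Ku hx)
    rw [show g * (g⁻¹ * s * g) * g⁻¹ = s by group] at h2
    have h3 := S.mem_conj (g := g) p.Ks hu'
    rw [hg] at h3
    have hK2 := S.K_conj g _ hK'
    have hne : s ≠ g * (c⁻¹ * u * c) * g⁻¹ := fun e => hsE (e ▸ h3)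
    exact (S.K_sq hK2).2 (hD _ (S.mem_symm hK2 p.Ks h2 hne) h3)
  · set k := c * g⁻¹ with hk
    have k1 : k * t0 * k⁻¹ = s := by
      rw [← hg, hk, show c * g⁻¹ * (g * s * g⁻¹) * (c * g⁻¹)⁻¹ = c * s * c⁻¹ by group,
        conj_eq_iff_commute.2 hc]
    have k2 : k * s * k⁻¹ = t0 := by rw [hk, ← hx]; group
    -- the centralizer of `s` in `E t0`
    have hcardB : Nat.card (S.E t0 ⊓ Subgroup.centralizer ({s} : Set G) : Subgroup G) = 16 := by
      rw [← p.card_cent h0]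
      have hfwd : ∀ b, b ∈ S.E t0 → Commute b s → k * b * k⁻¹ ∈ S.E s ∧ Commute (k * b * k⁻¹) t0 := by
        intro b hb hbs
        refine ⟨k1 ▸ S.mem_conj hK hb, ?_⟩
        rw [← k2]
        show k * b * k⁻¹ * (k * s * k⁻¹) = k * s * k⁻¹ * (k * b * k⁻¹)
        rw [show k * b * k⁻¹ * (k * s * k⁻¹) = k * (b * s) * k⁻¹ by group, hbs.eq]; group
      have hbwd : ∀ a, a ∈ S.E s → Commute a t0 → k⁻¹ * a * k ∈ S.E t0 ∧ Commute (k⁻¹ * a * k) s := by
        intro a ha hat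
        refine ⟨?_, ?_⟩
        · have h1 := S.mem_conj (g := k⁻¹) p.Ks ha
          rwa [inv_inv, show k⁻¹ * s * k = t0 by rw [← k1]; group] at h1
        · have e : k⁻¹ * t0 * k = s := by rw [← k2]; group
          show k⁻¹ * a * k * s = s * (k⁻¹ * a * k)
          calc k⁻¹ * a * k * s = k⁻¹ * a * k * (k⁻¹ * t0 * k) := by rw [e]
            _ = k⁻¹ * (a * t0) * k := by group
            _ = k⁻¹ * (t0 * a) * k := by rw [hat.eq]
            _ = k⁻¹ * t0 * k * (k⁻¹ * a * k) := by group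
            _ = s * (k⁻¹ * a * k) := by rw [e]
      refine Nat.card_congr
        { toFun := fun b => ⟨k * b.1 * k⁻¹,
            (hfwd b.1 b.2.1 (Subgroup.mem_centralizer_singleton_iff.1 b.2.2)).1,
            Subgroup.mem_centralizer_singleton_iff.2
              (hfwd b.1 b.2.1 (Subgroup.mem_centralizer_singleton_iff.1 b.2.2)).2.eq⟩
          invFun := fun a => ⟨k⁻¹ * a.1 * k,
            (hbwd a.1 a.2.1 (Subgroup.mem_centralizer_singleton_iff.1 a.2.2)).1,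
            Subgroup.mem_centralizer_singleton_iff.2
              (hbwd a.1 a.2.1 (Subgroup.mem_centralizer_singleton_iff.1 a.2.2)).2.eq⟩
          left_inv := fun b => Subtype.ext (by group)
          right_inv := fun a => Subtype.ext (by group) }
    set B := (S.E t0 ⊓ Subgroup.centralizer ({s} : Set G) : Subgroup G) with hB
    have hact : ∀ b : B, ∃ h : Orth Q6, Acts s (S.E s) π b h ∧ h.1 u0 = u0 ∧
        h.1 (emb (1, 0, 0, 0)) = emb (1, 0, 0, 0) ∧ h.1 (emb (0, 1, 0, 0)) = emb (0, 1, 0, 0) ∧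
        Commute h (sg w0) := by
      intro b
      have hbs : Commute (b : G) s := Subgroup.mem_centralizer_singleton_iff.1 b.2.2
      have hbt : Commute (b : G) t0 := hN.le_cent _ b.2.1
      obtain ⟨h, -, hh⟩ := p.left.act _ hbs
      have hfix : ∀ v : V6, v.2.1 = 0 → v.2.2.2.2.1 = 0 → v.2.2.2.2.2 = 0 → h.1 v = v := by
        intro v hv1 hv2 hv3
        obtain ⟨a, ha, rfl⟩ := p.left.surj v
        have hat : Commute a t0 := (p.cent_iff h0 ha).2 ⟨hv1, hv2, hv3⟩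
        have h1 := hD _ ((S.E s).mul_mem (p.left.normal _ hbs a ha) ((S.E s).inv_mem ha)) (by
          rw [show (b : G) * a * (b : G)⁻¹ * a⁻¹ = (b : G) * (a * (b : G)⁻¹ * a⁻¹) by group]
          exact (S.E t0).mul_mem b.2.1 (hN.normal a hat _ ((S.E t0).inv_mem b.2.1)))
        rw [← hh.2 a ha, mul_inv_eq_one.1 h1]
      refine ⟨h, hh, hfix _ rfl rfl rfl, hfix _ rfl rfl rfl, hfix _ rfl rfl rfl, ?_⟩
      have h2 := p.left.acts_mul hh htA
      rw [hbt.eq] at h2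
      exact p.left.acts_unique h2 (p.left.acts_mul htA hh)
    choose h hh using hact
    let code : B → (ZMod 2 × ZMod 2) × ZMod 2 :=
      fun b => (((h b).1 v0).2.2.2.2, ((h b).1 (emb vd)).2.2.2.2.1)
    have hinj : Function.Injective code := by
      intro b b' hbb
      have hhe := code_inj (hh b).2 (hh b').2 (congrArg Prod.fst hbb) (congrArg Prod.snd hbb)
      have h1 := p.left.acts_mul (p.left.acts_inv (hh b).1) (hh b').1
      rw [hhe, inv_mul_cancel] at h1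
      exact Subtype.ext (inv_mul_eq_one.1 (hD _ (p.left.faith _ h1)
        ((S.E t0).mul_mem ((S.E t0).inv_mem b.2.1) b'.2.1)))
    have := Nat.card_le_card_of_injective code hinj
    rw [hcardB] at this
    simp [Nat.card_prod] at this

end Pair

/-- There are exactly two classes of involutions. -/
theorem Sys.two_classes [Finite G] (S : Sys G) {z : G} (hz : S.K z) :
    ∃ a b : G, orderOf a = 2 ∧ orderOf b = 2 ∧ ¬ IsConj a b ∧
      ∀ x : G, orderOf x = 2 → IsConj x a ∨ IsConj x b := by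
  obtain ⟨u, π, π', p⟩ := S.exists_pair_at hz
  obtain ⟨t0, h0⟩ := p.exists_rep
  obtain ⟨ht2, htE, -, -⟩ := p.rep_facts h0
  refine ⟨z, t0, CfsgLib.Invol.orderOf_eq_two (S.K_sq hz).2 (S.K_sq hz).1,
    CfsgLib.Invol.orderOf_eq_two (fun e => htE (e ▸ (S.E z).one_mem)) ht2, fun hc => ?_, fun x hx => ?_⟩
  · obtain ⟨g, hg⟩ := isConj_iff.1 hc
    exact p.rep_not_K h0 (hg ▸ S.K_conj g z hz)
  have hxx := CfsgLib.Invol.mul_self_eq_one hx
  have hx1 : x ≠ 1 := fun e => by rw [e, orderOf_one] at hx; omega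
  obtain ⟨g, hg⟩ := S.conj_into hz hxx
  have h1 : IsConj x (g * x * g⁻¹) := isConj_iff.2 ⟨g, rfl⟩
  have hne : g * x * g⁻¹ ≠ 1 := fun e => hx1 (conj_eq_one_iff.1 e)
  rcases p.classify h0 hg (sq_conj hxx) with h | ⟨c, hc, h⟩ | ⟨c, hc, h⟩
  · exact Or.inl (h1.trans (S.K_isConj z _ hz (S.K_of_mem hz h (sq_conj hxx) hne)).symm)
  · refine Or.inl (h1.trans ((isConj_iff.2 ⟨c, rfl⟩).trans
      (S.K_isConj z _ hz (S.K_of_mem p.Ku h (sq_conj (sq_conj hxx)) fun e => hne (conj_eq_one_iff.1 e))).symm))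
  · exact Or.inr (h1.trans (isConj_iff.2 ⟨c, h⟩))

end CfsgLib.SuzType
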